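import Groth.Agent.StrictLocLib.ProperStalk
import Groth.Agent.EtPtsLib.IntegralBCIso

/-!
# Base change for proper direct images in degree zero
-/

set_option autoImplicit false
set_option linter.unusedSectionVars false
set_option linter.style.haveILetI false
set_option backward.isDefEq.respectTransparency false
set_option backward.isDefEq.respectTransparency.types false
set_option maxHeartbeats 1000000

universe u

open CategoryTheory CategoryTheory.Limits AlgebraicGeometry Opposite
open Groth.Agent.EtPtsLib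

noncomputable section

namespace Groth.Agent.StrictLocLib

section Unit

variable {X Y C : Scheme.{u}} {q : Y ⟶ X} {t : C ⟶ Y} {g : C ⟶ X} (hw : t ≫ q = g) (F : EtCoh.Ab X)

/-- The comparison on global sections. -/
def adjTop : (gsecF C).obj ((EtCoh.pull t).obj ((EtCoh.pull q).obj F)) ⟶ (gsecF C).obj ((EtCoh.pull g).obj F) :=
  (transAdj hw F).hom.app (op (EtCoh.top C))

theorem adjTop_unit {W : X.Etale} (M : C ⟶ ((EtCoh.bc q).obj W).left) (wM : M ≫ ((EtCoh.bc q).obj W).hom = t)
    (x : EtCoh.sect F W) :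
    adjTop hw F (restrSec M wM ((EtCoh.pull q).obj F) (((EtCoh.pullPushAdj q).unit.app F).hom.app (op W) x)) =
      restrSec (M ≫ bcFst q W) (by
        rw [Category.assoc, bcFst, pullback.condition, ← Category.assoc]
        exact (congrArg (· ≫ q) wM).trans hw) F x := by
  let P := (EtCoh.pull g).obj F
  let y := ((EtCoh.pullPushAdj q).unit.app F).hom.app (op W) x
  have h1 : (transAdj hw F).hom.app (op ((EtCoh.bc t).obj ((EtCoh.bc q).obj W)))
      (((EtCoh.pullPushAdj t).unit.app ((EtCoh.pull q).obj F)).hom.app (op ((EtCoh.bc q).obj W)) y) =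
      (transHom hw F).hom.app (op ((EtCoh.bc q).obj W)) y :=
    congr(($(unit_transAdj hw F)).hom.app (op ((EtCoh.bc q).obj W)) y)
  have h2 : (transHom hw F).hom.app (op ((EtCoh.bc q).obj W)) y =
      P.obj.map (EtLimLib.bcSp q t g hw W).op (((EtCoh.pullPushAdj g).unit.app F).hom.app (op W) x) :=
    congr(($(unit_transHom hw F)).hom.app (op W) x)
  refine (NatTrans.naturality_apply (transAdj hw F).hom (secMor M wM).op _).trans ?_
  refine (congrArg (P.obj.map (secMor M wM).op) (h1.trans h2)).trans ?_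
  refine (Functor.map_comp_apply P.obj _ _ _).symm.trans ?_
  show _ = P.obj.map _ _
  rw [← op_comp]
  congr 3
  refine congrArg Quiver.Hom.op (EtLimLib.bc_ext g ?_)
  rw [secMor_fst]
  show ((secMor M wM).left ≫ (EtLimLib.bcSp q t g hw W).left) ≫ _ = _
  rw [Category.assoc, EtLimLib.bcSp_fst, ← Category.assoc, secMor_fst]

theorem bijective_adjTop : Function.Bijective (adjTop hw F) := by
  haveI := isIso_transAdj hw F
  haveI : IsIso ((transAdj hw F).hom.app (op (EtCoh.top C))) :=
    inferInstanceAs (IsIso (((ObjectProperty.ι _).mapIso (asIso (transAdj hw F))).app (op (EtCoh.top C))).hom)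
  exact ConcreteCategory.bijective_of_isIso ((transAdj hw F).hom.app (op (EtCoh.top C)))

end Unit

variable {X Y X' Y' : Scheme.{u}} (f : X ⟶ Y) [IsProper f] (g : Y' ⟶ Y) (f' : X' ⟶ Y') (g' : X' ⟶ X)
  (h : IsPullback g' f' f g) {Ω : Type u} [Field Ω] [IsAlgClosed Ω] (η : Spec (CommRingCat.of Ω) ⟶ Y')

include h in
theorem stalk_baseChange0_bijective (F : EtCoh.Ab X) :
    Function.Bijective ((Scheme.pointSmallEtale η).presheafFiber.map (EtCoh.baseChange0 f g f' g' h.w F).hom) := by
  haveI : IsProper f' := MorphismProperty.of_isPullback h ‹IsProper f›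
  let α := EtCoh.baseChange0 f g f' g' h.w F
  let c' := pullback.fst f' η
  let d := pullback.snd f' η
  have sq' : IsPullback c' d f' η := IsPullback.of_hasPullback f' η
  have sq : IsPullback (c' ≫ g') d f (η ≫ g) := sq'.paste_horiz h
  let ρ := rho f (c' ≫ g') d (η ≫ g) sq.w F
  let ρ' := rho f' c' d η sq'.w ((EtCoh.pull g').obj F)
  have hρ : Function.Bijective ρ := bijective_rho f _ _ _ sq F
  have hρ' : Function.Bijective ρ' := bijective_rho f' _ _ _ sq' _
  have hθ := bijective_adjTop (rfl : c' ≫ g' = c' ≫ g') F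
  have hcomm : ∀ z, adjTop (rfl : c' ≫ g' = c' ≫ g') F (ρ' (bcStalk f g f' g' η F α z)) = ρ z := by
    intro z
    obtain ⟨V, l, x, rfl⟩ := (Scheme.pointSmallEtale (η ≫ g)).toPresheafFiber_jointly_surjective z
    let y := ((EtCoh.pullPushAdj g').unit.app F).hom.app (op ((EtCoh.bc f).obj V)) x
    let y' : EtCoh.sect ((EtCoh.push f').obj ((EtCoh.pull g').obj F)) ((EtCoh.bc g).obj V) :=
      ((EtCoh.pull g').obj F).obj.map (kappa f g f' g' h V).op y
    have e1 : bcStalk f g f' g' η F α ((Scheme.pointSmallEtale (η ≫ g)).toPresheafFiber V l ((EtCoh.push f).obj F).obj x) =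
        (Scheme.pointSmallEtale η).toPresheafFiber ((EtCoh.bc g).obj V) (liftBc g η V l)
          ((EtCoh.push f').obj ((EtCoh.pull g').obj F)).obj y' := by
      have hb := isBC_ab f g f' g' h F V
      rw [Adjunction.homEquiv_unit] at hb
      refine (congrArg ((Scheme.pointSmallEtale η).presheafFiber.map α.hom)
        ((ConcreteCategory.comp_apply _ _ _).symm.trans (congrArg (fun m => (ConcreteCategory.hom m) x)
          (toPresheafFiber_unitStalk g η ((EtCoh.push f).obj F) V l)))).trans ?_
      refine ((Scheme.pointSmallEtale η).toPresheafFiber_naturality_apply α.hom _ _ _).trans ?_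
      exact congrArg ((Scheme.pointSmallEtale η).toPresheafFiber ((EtCoh.bc g).obj V) (liftBc g η V l)
        ((EtCoh.push f').obj ((EtCoh.pull g').obj F)).obj) congr($hb x)
    refine (congrArg (fun w => adjTop (rfl : c' ≫ g' = c' ≫ g') F (ρ' w)) e1).trans ?_
    let m := toC f' c' d η sq'.w ((EtCoh.bc g).obj V) (liftBc g η V l)
    have wm : m ≫ ((EtCoh.bc f').obj ((EtCoh.bc g).obj V)).hom = c' := toC_w f' c' d η sq'.w _ _
    refine (congrArg (adjTop (rfl : c' ≫ g' = c' ≫ g') F)
      ((rho_germ f' c' d η sq'.w _ (liftBc g η V l) ((EtCoh.pull g').obj F) y').trans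
        ((ConcreteCategory.comp_apply _ _ _).symm.trans (congrArg (fun k => (ConcreteCategory.hom k) y)
          (restrSec_map (kappa f g f' g' h V) m wm (m ≫ (kappa f g f' g' h V).left)
            ((Category.assoc _ _ _).trans ((congrArg (m ≫ ·) (MorphismProperty.Over.w (kappa f g f' g' h V))).trans wm))
            rfl ((EtCoh.pull g').obj F)))))).trans ?_
    refine (adjTop_unit (rfl : c' ≫ g' = c' ≫ g') F _ _ x).trans ?_
    refine Eq.trans ?_ (rho_germ f (c' ≫ g') d (η ≫ g) sq.w V l F x).symm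
    refine congrArg (fun k : F.obj.obj (op ((EtCoh.bc f).obj V)) ⟶ (gsecF _).obj ((EtCoh.pull (c' ≫ g')).obj F) =>
      (ConcreteCategory.hom k) x) (restrSec_congr ?_ _ _ F)
    apply pullback.hom_ext
    · refine Eq.trans ?_ (toC_fst f (c' ≫ g') d (η ≫ g) sq.w V l).symm
      show ((m ≫ (kappa f g f' g' h V).left) ≫ bcFst g' _) ≫ bcFst f V = _
      rw [Category.assoc, Category.assoc, kappa_fst, ← Category.assoc,
        show m ≫ bcFst f' ((EtCoh.bc g).obj V) = d ≫ liftHom η (liftBc g η V l) from toC_fst f' c' d η sq'.w _ _,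
        Category.assoc, liftHom_liftBc_fst]
    · refine Eq.trans ?_ (toC_w f (c' ≫ g') d (η ≫ g) sq.w V l).symm
      have hc : bcFst g' ((EtCoh.bc f).obj V) ≫ ((EtCoh.bc f).obj V).hom =
          ((EtCoh.bc g').obj ((EtCoh.bc f).obj V)).hom ≫ g' := pullback.condition
      show ((m ≫ (kappa f g f' g' h V).left) ≫ bcFst g' _) ≫ ((EtCoh.bc f).obj V).hom = _
      rw [Category.assoc, hc, ← Category.assoc, Category.assoc m]
      exact congrArg (· ≫ g') ((congrArg (m ≫ ·) (MorphismProperty.Over.w (kappa f g f' g' h V))).trans wm)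
  have hb : Function.Bijective (bcStalk f g f' g' η F α) := by
    refine ⟨fun a b e => hρ.1 (by rw [← hcomm, ← hcomm, e]), fun y => ?_⟩
    obtain ⟨z, hz⟩ := hρ.2 (adjTop (rfl : c' ≫ g' = c' ≫ g') F (ρ' y))
    exact ⟨z, hρ'.1 (hθ.1 ((hcomm z).trans hz))⟩
  obtain ⟨-, hs⟩ := bijective_unitStalk g η ((EtCoh.push f).obj F)
  have e : ∀ x, (Scheme.pointSmallEtale η).presheafFiber.map α.hom (unitStalk g η ((EtCoh.push f).obj F) x) =
      bcStalk f g f' g' η F α x := fun x => (ConcreteCategory.comp_apply _ _ x).symm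
  refine ⟨fun a b hab => ?_, fun y => ?_⟩
  · obtain ⟨a, rfl⟩ := hs a
    obtain ⟨b, rfl⟩ := hs b
    rw [hb.1 ((e a).symm.trans (hab.trans (e b)))]
  · obtain ⟨x, hx⟩ := hb.2 y
    exact ⟨_, (e x).trans hx⟩

include h in
theorem isIso_baseChange0_proper (F : EtCoh.Ab X) : IsIso (EtCoh.baseChange0 f g f' g' h.w F) :=
  isIso_of_alg_ab _ fun y => stalk_baseChange0_bijective f g f' g' h (geomPtAlg y) F

end Groth.Agent.StrictLocLib
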