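import Groth.Agent.StrictLocLib.Compare
import Groth.Agent.SpSeqLib.DerivedComp
import Groth.Agent.SpSeqLib.ExtDerived
import Groth.Agent.SpSeqLib.AcyclicResolution
import Groth.Agent.S0101

/-!
# Stalks of higher direct images as cohomology over the strict localization
-/

set_option autoImplicit false
set_option linter.unusedSectionVars false
set_option linter.style.haveILetI false
set_option backward.isDefEq.respectTransparency false
set_option backward.isDefEq.respectTransparency.types false
set_option maxHeartbeats 1000000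

universe u

open CategoryTheory CategoryTheory.Limits AlgebraicGeometry Opposite IsLocalRing Abelian

noncomputable section

namespace Groth.Agent.StrictLocLib

/-- The constant sheaf with value the integers. -/
abbrev cstZ (Z : Scheme.{u}) : EtCoh.Ab Z :=
  (constantSheaf Z.smallEtaleTopology AddCommGrpCat.{u + 1}).obj (AddCommGrpCat.of (ULift.{u + 1} ℤ))

/-- Global sections are the maps from the constant sheaf. -/
def gsecIsoCoyoneda (Z : Scheme.{u}) : gsecF Z ≅ preadditiveCoyoneda.obj (op (cstZ Z)) :=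
  NatIso.ofComponents
    (fun F => (((Sheaf.H.equiv₀ F (EtCore.topIsTerminal Z)).symm).trans Ext.addEquiv₀).toAddCommGrpIso)
    (fun {F G} a => by
      ext x
      show Ext.addEquiv₀ ((Sheaf.H.equiv₀ G (EtCore.topIsTerminal Z)).symm (a.hom.app (op (EtCoh.top Z)) x)) =
        Ext.addEquiv₀ ((Sheaf.H.equiv₀ F (EtCore.topIsTerminal Z)).symm x) ≫ a
      have e : (Sheaf.H.equiv₀ G (EtCore.topIsTerminal Z)).symm (a.hom.app (op (EtCoh.top Z)) x) =
          Sheaf.H.map a 0 ((Sheaf.H.equiv₀ F (EtCore.topIsTerminal Z)).symm x) := by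
        rw [AddEquiv.symm_apply_eq, ← Sheaf.H.equiv₀_naturality, AddEquiv.apply_symm_apply]
      rw [e]
      generalize (Sheaf.H.equiv₀ F (EtCore.topIsTerminal Z)).symm x = y
      obtain ⟨b, rfl⟩ := Ext.addEquiv₀.symm.surjective y
      show Ext.addEquiv₀ ((Ext.mk₀ b).comp (Ext.mk₀ a) (add_zero 0)) = _
      rw [Ext.mk₀_comp_mk₀]
      exact (Ext.addEquiv₀.apply_symm_apply (b ≫ a)).trans
        (congrArg (· ≫ a) (Ext.addEquiv₀.apply_symm_apply b)).symm)

/-- Cohomology is `Ext` from the constant sheaf. -/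
def extIsoHF (Z : Scheme.{u}) (n : ℕ) : Abelian.extFunctorObj (cstZ Z) n ≅ EtCoh.HF Z n :=
  NatIso.ofComponents (fun F => Iso.refl _) (fun a => by ext x; rfl)

variable {X S : Scheme.{u}} {R : Type u} [CommRing R] [HenselianLocalRing R] [IsSepClosed (ResidueField R)]
  (h : Spec (CommRingCat.of R) ⟶ S) (f : X ⟶ S) [QuasiCompact f] [QuasiSeparated f]

/-- The comparison in degree zero as an isomorphism of functors. -/
def compareIso (N : NbhdSys h) :
    EtCoh.push f ⋙ EtCoh.stalk (pt h) ≅ EtCoh.pull (proj h f) ⋙ gsecF (pullback f h) :=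
  haveI : ∀ F, IsIso ((compare h f).app F) := fun F =>
    (ConcreteCategory.isIso_iff_bijective _).2 (bijective_compare h f N F)
  haveI : IsIso (compare h f) := NatIso.isIso_of_isIso_app _
  asIso (compare h f)

theorem nonempty_stalk_Rpush_natIso (N : NbhdSys h) (n : ℕ) :
    Nonempty (EtCoh.Rpush f n ⋙ EtCoh.stalk (pt h) ≅
      EtCoh.pull (proj h f) ⋙ EtCoh.HF (pullback f h) n) := by
  haveI : PreservesFiniteLimits (EtCoh.pull (proj h f)) := Groth.Agent.S0101.result _
  haveI : PreservesColimitsOfSize.{0, 0} (EtCoh.pull (proj h f)) :=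
    (EtCoh.pullPushAdj (proj h f)).leftAdjoint_preservesColimits
  haveI : PreservesFiniteColimits (EtCoh.pull (proj h f)) := PreservesColimitsOfSize.preservesFiniteColimits _
  haveI : (EtCoh.pull (proj h f)).Additive := Functor.additive_of_preserves_binary_products _
  haveI : (EtCoh.stalk (pt h)).Additive := Functor.additive_of_preserves_binary_products _
  let G := preadditiveCoyoneda.obj (op (cstZ (pullback f h)))
  let e₀ : EtCoh.push f ⋙ EtCoh.stalk (pt h) ≅ EtCoh.pull (proj h f) ⋙ G :=
    compareIso h f N ≪≫ Functor.isoWhiskerLeft _ (gsecIsoCoyoneda _)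
  obtain ⟨eExt⟩ := SpSeqLib.nonempty_rightDerived_coyoneda_natIso (cstZ (pullback f h)) n
  have hac : ∀ I : EtCoh.Ab X, Injective I → SpSeqLib.IsAcyclicFor G ((EtCoh.pull (proj h f)).obj I) := fun I _ p => by
    obtain ⟨e⟩ := SpSeqLib.nonempty_rightDerived_coyoneda_natIso (cstZ (pullback f h)) (p + 1)
    haveI := subsingleton_H_of_injective h f N I p
    exact IsZero.of_iso (AddCommGrpCat.isZero_of_subsingleton
      (AddCommGrpCat.of (EtCoh.H (pullback f h) ((EtCoh.pull (proj h f)).obj I) (p + 1)))) (e.app _)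
  exact ⟨(SpSeqLib.rightDerivedPostcompIso (EtCoh.push f) (EtCoh.stalk (pt h)) n).symm ≪≫
    SpSeqLib.rightDerivedCongr e₀ n ≪≫ SpSeqLib.rightDerivedPrecompAcyclicIso (EtCoh.pull (proj h f)) G hac n ≪≫
    Functor.isoWhiskerLeft _ (eExt ≪≫ extIsoHF _ n)⟩

end Groth.Agent.StrictLocLib
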