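import Groth.Agent.StrictLocLib.ProperBC
import Groth.Agent.DiagFlatLib.Basic
import Groth.Agent.ProEtLib2.IndEtaleWeakly
import Groth.Agent.S12237

/-!
# Base change along morphisms whose maps of strict localizations have connected fibres
-/

set_option autoImplicit false
set_option linter.unusedSectionVars false
set_option linter.style.haveILetI false
set_option backward.isDefEq.respectTransparency false
set_option backward.isDefEq.respectTransparency.types false
set_option maxHeartbeats 1000000

universe u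

open CategoryTheory CategoryTheory.Limits AlgebraicGeometry Opposite IsLocalRing
open Groth.Agent.EtPtsLib

noncomputable section

namespace Groth.Agent.StrictLocLib

section StalkTo

variable {S : Scheme.{u}} {K L : Type u} [Field K] [IsSepClosed K] [Field L] [IsSepClosed L]
  (ι : K →+* L) (p : Spec (CommRingCat.of K) ⟶ S) (ξ : Spec (CommRingCat.of L) ⟶ S)
  (e : Spec.map (CommRingCat.ofHom ι) ≫ p = ξ)

/-- The map of fibres of an extension of geometric points. -/
def fibTo (U : S.Etale) (l : (Scheme.pointSmallEtale p).fiber.obj U) : (Scheme.pointSmallEtale ξ).fiber.obj U :=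
  Over.homMk (Spec.map (CommRingCat.ofHom ι) ≫ liftHom p l)
    ((Category.assoc _ _ _).trans ((congrArg (Spec.map (CommRingCat.ofHom ι) ≫ ·) (liftHom_comp p l)).trans e))

theorem fibTo_map {U V : S.Etale} (g : V ⟶ U) (l : (Scheme.pointSmallEtale p).fiber.obj V) :
    (Scheme.pointSmallEtale ξ).fiber.map g (fibTo ι p ξ e V l) =
      fibTo ι p ξ e U ((Scheme.pointSmallEtale p).fiber.map g l) :=
  Over.OverMorphism.ext ((liftHom_map ξ g _).trans ((Category.assoc _ _ _).trans
    (congrArg (Spec.map (CommRingCat.ofHom ι) ≫ ·) (liftHom_map p g l).symm)))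

theorem specMap_field_cancel {U : Scheme.{u}} {a b : Spec (CommRingCat.of K) ⟶ U}
    (h : Spec.map (CommRingCat.ofHom ι) ≫ a = Spec.map (CommRingCat.ofHom ι) ≫ b) : a = b := by
  obtain ⟨⟨x, φ⟩, rfl⟩ := (Scheme.SpecToEquivOfField K U).symm.surjective a
  obtain ⟨⟨y, χ⟩, rfl⟩ := (Scheme.SpecToEquivOfField K U).symm.surjective b
  change Spec.map (CommRingCat.ofHom ι) ≫ Spec.map φ ≫ U.fromSpecResidueField x =
    Spec.map (CommRingCat.ofHom ι) ≫ Spec.map χ ≫ U.fromSpecResidueField y at h
  rw [← Category.assoc, ← Category.assoc, ← Spec.map_comp, ← Spec.map_comp] at h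
  have h' := (Scheme.SpecToEquivOfField L U).symm.injective (a₁ := ⟨x, φ ≫ CommRingCat.ofHom ι⟩)
    (a₂ := ⟨y, χ ≫ CommRingCat.ofHom ι⟩) h
  obtain ⟨rfl, hh⟩ := Sigma.mk.inj_iff.1 h'
  haveI : Mono (CommRingCat.ofHom ι) := ConcreteCategory.mono_of_injective _ ι.injective
  rw [(cancel_mono (CommRingCat.ofHom ι)).1 (eq_of_heq hh)]

theorem fibTo_injective (U : S.Etale) : Function.Injective (fibTo ι p ξ e U) := fun a b h =>
  Over.OverMorphism.ext (specMap_field_cancel ι (congrArg (liftHom ξ) h))

theorem fibTo_surjective (U : S.Etale) : Function.Surjective (fibTo ι p ξ e U) := by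
  subst e
  intro m
  let a := Spec.map (CommRingCat.ofHom ι)
  let U' := (EtCoh.bc p).obj U
  let m' := liftBc p a U m
  obtain ⟨g, hg⟩ := exists_top_hom_field K a U' m'
  obtain ⟨y, hy⟩ := exists_fiber_map_eq a g m' (liftHom a (topPt K a) default) hg
  have e : liftHom a m' = a ≫ g.left := by
    rw [← hy, liftHom_map]
    exact congrArg (· ≫ g.left) ((Category.comp_id _).symm.trans (liftHom_comp a y))
  refine ⟨Over.homMk (g.left ≫ bcFst p U) ?_, Over.OverMorphism.ext ?_⟩
  · show (g.left ≫ pullback.fst U.hom p) ≫ U.hom = p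
    rw [Category.assoc, pullback.condition, ← Category.assoc]
    exact (congrArg (· ≫ p) (MorphismProperty.Over.w g)).trans (Category.id_comp _)
  · show a ≫ g.left ≫ bcFst p U = liftHom _ m
    rw [← Category.assoc, ← e]
    exact liftHom_liftBc_fst p a U m

/-- The map of stalks of an extension of geometric points. -/
def stalkTo (P : S.Etaleᵒᵖ ⥤ AddCommGrpCat.{u + 1}) :
    (Scheme.pointSmallEtale p).presheafFiber.obj P ⟶ (Scheme.pointSmallEtale ξ).presheafFiber.obj P :=
  (Scheme.pointSmallEtale p).presheafFiberDesc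
    (fun U l => (Scheme.pointSmallEtale ξ).toPresheafFiber U (fibTo ι p ξ e U l) P)
    (fun _ _ g l => ((Scheme.pointSmallEtale ξ).toPresheafFiber_w g (fibTo ι p ξ e _ l) P).trans
      (congrArg (fun n => (Scheme.pointSmallEtale ξ).toPresheafFiber _ n P) (fibTo_map ι p ξ e g l)))

theorem stalkTo_germ (P : S.Etaleᵒᵖ ⥤ AddCommGrpCat.{u + 1}) (U : S.Etale)
    (l : (Scheme.pointSmallEtale p).fiber.obj U) (x : ToType (P.obj (op U))) :
    stalkTo ι p ξ e P ((Scheme.pointSmallEtale p).toPresheafFiber U l P x) =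
      (Scheme.pointSmallEtale ξ).toPresheafFiber U (fibTo ι p ξ e U l) P x :=
  (ConcreteCategory.comp_apply _ _ _).symm.trans
    (congrArg (fun m : P.obj (op U) ⟶ (Scheme.pointSmallEtale ξ).presheafFiber.obj P => (ConcreteCategory.hom m) x)
      ((Scheme.pointSmallEtale p).toPresheafFiber_presheafFiberDesc
        (fun U l => (Scheme.pointSmallEtale ξ).toPresheafFiber U (fibTo ι p ξ e U l) P)
        (fun _ _ g l => ((Scheme.pointSmallEtale ξ).toPresheafFiber_w g (fibTo ι p ξ e _ l) P).trans
          (congrArg (fun n => (Scheme.pointSmallEtale ξ).toPresheafFiber _ n P) (fibTo_map ι p ξ e g l))) U l))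

theorem bijective_stalkTo (P : S.Etaleᵒᵖ ⥤ AddCommGrpCat.{u + 1}) : Function.Bijective (stalkTo ι p ξ e P) := by
  refine ⟨fun a b hab => ?_, fun z => ?_⟩
  · obtain ⟨U, l, x, y, rfl, rfl⟩ := (Scheme.pointSmallEtale p).toPresheafFiber_jointly_surjective₂ a b
    rw [stalkTo_germ, stalkTo_germ] at hab
    obtain ⟨V, g, m, hm, exy⟩ := ((Scheme.pointSmallEtale ξ).toPresheafFiber_eq_iff' U _ x y).1 hab
    obtain ⟨n, rfl⟩ := fibTo_surjective ι p ξ e V m
    exact ((Scheme.pointSmallEtale p).toPresheafFiber_eq_iff' U l x y).2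
      ⟨V, g, n, fibTo_injective ι p ξ e U ((fibTo_map ι p ξ e g n).symm.trans hm), exy⟩
  · obtain ⟨U, m, x, rfl⟩ := (Scheme.pointSmallEtale ξ).toPresheafFiber_jointly_surjective z
    obtain ⟨l, rfl⟩ := fibTo_surjective ι p ξ e U m
    exact ⟨_, stalkTo_germ ι p ξ e P U l x⟩

end StalkTo

/-- A map to a strict henselization is flat once the composite is. -/
theorem flat_of_strictHenselization {A R B : Type u} [CommRing A] [IsLocalRing A] [CommRing R] [IsLocalRing R]
    [Algebra A R] [IsLocalHom (algebraMap A R)] [Hensel.IsStrictHenselization A R] [CommRing B] (ψ : R →+* B)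
    (h : (ψ.comp (algebraMap A R)).Flat) : ψ.Flat := by
  letI : Algebra R B := ψ.toAlgebra
  letI : Algebra A B := (ψ.comp (algebraMap A R)).toAlgebra
  haveI : IsScalarTower A R B := .of_algebraMap_eq fun _ => rfl
  haveI : Module.Flat A B := h
  have hw := ProEtLib2.weaklyEtale_of_isIndEtale (S12237.result A R)
  exact DiagFlatLib.flat_of_flat_diagonal (A := A) (B := R) (M := B) hw.2

/-- Connected geometric fibres over algebraically closed fields suffice. -/
theorem geometricallyConnected_of_algClosed {X Y : Scheme.{u}} (f : X ⟶ Y)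
    (h : ∀ (Ω : Type u) [Field Ω] [IsAlgClosed Ω] (η : Spec (CommRingCat.of Ω) ⟶ Y),
      ConnectedSpace ↥(pullback f η)) : GeometricallyConnected f := by
  refine ⟨fun K _ y Z fst snd hsq => ?_⟩
  let L := AlgebraicClosure K
  let j := Spec.map (CommRingCat.ofHom (algebraMap K L))
  haveI : Surjective j := GeomIrred.surjective_specMap_field K L
  haveI := h L (j ≫ y)
  let i := ((IsPullback.of_hasPullback snd j).paste_horiz hsq).isoPullback
  haveI : ConnectedSpace ↥(pullback snd j) :=
    GeomIrred.connectedSpace_of_surjective i.inv i.inv.surjective inferInstance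
  haveI : Surjective (pullback.fst snd j) := MorphismProperty.pullback_fst _ _ ‹Surjective j›
  exact GeomIrred.connectedSpace_of_surjective (pullback.fst snd j) (pullback.fst snd j).surjective inferInstance

/-- Units of abelian sheaves are isomorphisms along all base changes of `Spec ψ`. -/
def UnitBijAlong {RS RX : Type u} [CommRing RS] [CommRing RX] (ψ : RS →+* RX) : Prop :=
  ∀ ⦃T' T : Scheme.{u}⦄ ⦃t : T ⟶ Spec (CommRingCat.of RS)⦄ ⦃π : T' ⟶ T⦄ ⦃q : T' ⟶ Spec (CommRingCat.of RX)⦄,
    IsPullback π q t (Spec.map (CommRingCat.ofHom ψ)) → ∀ G : EtCoh.Ab T, IsIso ((EtCoh.pullPushAdj π).unit.app G)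

/-- Flat with geometrically connected fibres suffices. -/
theorem unitBijAlong_of_flat {RS RX : Type u} [CommRing RS] [CommRing RX] (ψ : RS →+* RX)
    (h₁ : Flat (Spec.map (CommRingCat.ofHom ψ))) (h₂ : GeometricallyConnected (Spec.map (CommRingCat.ofHom ψ))) :
    UnitBijAlong ψ := by
  intro T' T t π q sq G
  haveI : Flat π := MorphismProperty.of_isPullback sq.flip h₁
  haveI : QuasiCompact π := MorphismProperty.of_isPullback sq.flip
    (inferInstance : QuasiCompact (Spec.map (CommRingCat.ofHom ψ)))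
  haveI : GeometricallyConnected π := MorphismProperty.of_isPullback sq.flip h₂
  exact GeomConnPull.isIso_unit_of_flat π G

section BC

variable {X S Y T : Scheme.{u}} (g : T ⟶ S) [QuasiCompact g] [QuasiSeparated g] (f : X ⟶ S) (h : Y ⟶ X)
  (e : Y ⟶ T) (hc : IsPullback e h g f)
  {RS RX : Type u} [CommRing RS] [HenselianLocalRing RS] [IsSepClosed (ResidueField RS)]
  [CommRing RX] [HenselianLocalRing RX] [IsSepClosed (ResidueField RX)]
  (hS : Spec (CommRingCat.of RS) ⟶ S) (hX : Spec (CommRingCat.of RX) ⟶ X)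
  (ψ : RS →+* RX) [IsLocalHom ψ] (hψ : hX ≫ f = Spec.map (CommRingCat.ofHom ψ) ≫ hS)
  (NS : NbhdSys hS) (NX : NbhdSys hX)
  {Ω : Type u} [Field Ω] [IsAlgClosed Ω] (ι : ResidueField RX →+* Ω)

include hψ in
theorem geomAbove_comp : Spec.map (CommRingCat.ofHom (ι.comp (ResidueField.map ψ))) ≫ pt hS =
    (Spec.map (CommRingCat.ofHom ι) ≫ pt hX) ≫ f := by
  rw [Category.assoc, pt, pt, Category.assoc, hψ]
  simp only [← Spec.map_comp_assoc]
  rfl

include hc hψ NS NX in
theorem bcStalk_bijective_of_strictLoc (F : EtCoh.Ab T)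
    (hu₀ : ∀ π : pullback h hX ⟶ pullback g hS,
      IsPullback π (pullback.snd h hX) (pullback.snd g hS) (Spec.map (CommRingCat.ofHom ψ)) →
        IsIso ((EtCoh.pullPushAdj π).unit.app ((EtCoh.pull (pullback.fst g hS)).obj F))) :
    Function.Bijective (bcStalk g f h e (Spec.map (CommRingCat.ofHom ι) ≫ pt hX) F
      (EtCoh.baseChange0 g f h e hc.w F)) := by
  let η := Spec.map (CommRingCat.ofHom ι) ≫ pt hX
  let α := EtCoh.baseChange0 g f h e hc.w F
  haveI : QuasiCompact h := MorphismProperty.of_isPullback hc ‹QuasiCompact g›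
  haveI : QuasiSeparated h := MorphismProperty.of_isPullback hc ‹QuasiSeparated g›
  have eS := geomAbove_comp f hS hX ψ hψ ι
  let TS := pullback g hS
  let YX := pullback h hX
  let pX : YX ⟶ Y := proj hX h
  have sqX : IsPullback (pX ≫ e) (pullback.snd h hX) g (Spec.map (CommRingCat.ofHom ψ) ≫ hS) := by
    rw [← hψ]
    exact (IsPullback.of_hasPullback h hX).paste_horiz hc
  let π : YX ⟶ TS := pullback.lift (pX ≫ e) (pullback.snd h hX ≫ Spec.map (CommRingCat.ofHom ψ))
    (sqX.w.trans (Category.assoc _ _ _).symm)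
  have hπ1 : π ≫ proj hS g = pX ≫ e := pullback.lift_fst _ _ _
  have sqπ : IsPullback π (pullback.snd h hX) (pullback.snd g hS) (Spec.map (CommRingCat.ofHom ψ)) := by
    refine IsPullback.of_right ?_ (pullback.lift_snd _ _ _) (IsPullback.of_hasPullback g hS)
    show IsPullback (π ≫ proj hS g) _ _ _
    rw [hπ1]
    exact sqX
  haveI : IsIso ((EtCoh.pullPushAdj π).unit.app ((EtCoh.pull (proj hS g)).obj F)) := hu₀ π sqπ
  have hu : Function.Bijective (((EtCoh.pullPushAdj π).unit.app ((EtCoh.pull (proj hS g)).obj F)).hom.app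
      (op (EtCoh.top TS))) := by
    haveI : IsIso (((EtCoh.pullPushAdj π).unit.app ((EtCoh.pull (proj hS g)).obj F)).hom.app (op (EtCoh.top TS))) :=
      inferInstanceAs (IsIso (((ObjectProperty.ι _).mapIso
        (asIso ((EtCoh.pullPushAdj π).unit.app ((EtCoh.pull (proj hS g)).obj F)))).app (op (EtCoh.top TS))).hom)
    exact ConcreteCategory.bijective_of_isIso _
  let toS := stalkTo (ι.comp (ResidueField.map ψ)) (pt hS) (η ≫ f) eS ((EtCoh.push g).obj F).obj
  let toX := stalkTo ι (pt hX) η rfl ((EtCoh.push h).obj ((EtCoh.pull e).obj F)).obj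
  have hkey : ∀ z, ∃ w, bcStalk g f h e η F α (toS z) = toX w ∧
      adjTop (rfl : pX ≫ e = pX ≫ e) F ((compare hX h).app ((EtCoh.pull e).obj F) w) =
        trans hπ1 F ((compare hS g).app F z) := by
    intro z
    obtain ⟨V, l, x, rfl⟩ := (Scheme.pointSmallEtale (pt hS)).toPresheafFiber_jointly_surjective z
    have hl : (Spec.map (CommRingCat.ofHom (ResidueField.map ψ)) ≫ liftHom (pt hS) l) ≫ V.hom = pt hX ≫ f := by
      rw [Category.assoc, liftHom_comp, pt, pt, Category.assoc, hψ]
      simp only [← Spec.map_comp_assoc]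
      rfl
    let lV : (Scheme.pointSmallEtale (pt hX ≫ f)).fiber.obj V :=
      Over.homMk (Spec.map (CommRingCat.ofHom (ResidueField.map ψ)) ≫ liftHom (pt hS) l) hl
    let l' := liftBc f (pt hX) V lV
    let y := ((EtCoh.pullPushAdj e).unit.app F).hom.app (op ((EtCoh.bc g).obj V)) x
    let y' : EtCoh.sect ((EtCoh.push h).obj ((EtCoh.pull e).obj F)) ((EtCoh.bc f).obj V) :=
      ((EtCoh.pull e).obj F).obj.map (kappa g f h e hc V).op y
    refine ⟨(Scheme.pointSmallEtale (pt hX)).toPresheafFiber ((EtCoh.bc f).obj V) l'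
      ((EtCoh.push h).obj ((EtCoh.pull e).obj F)).obj y', ?_, ?_⟩
    · refine (congrArg (bcStalk g f h e η F α) (stalkTo_germ _ _ _ eS _ V l x)).trans ?_
      refine Eq.trans ?_ (stalkTo_germ ι (pt hX) η rfl _ _ l' y').symm
      have hb := isBC_ab g f h e hc F V
      rw [Adjunction.homEquiv_unit] at hb
      refine (congrArg ((Scheme.pointSmallEtale η).presheafFiber.map α.hom)
        ((ConcreteCategory.comp_apply _ _ _).symm.trans (congrArg (fun m => (ConcreteCategory.hom m) x)
          (toPresheafFiber_unitStalk f η ((EtCoh.push g).obj F) V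
            (fibTo (ι.comp (ResidueField.map ψ)) (pt hS) (η ≫ f) eS V l))))).trans ?_
      refine ((Scheme.pointSmallEtale η).toPresheafFiber_naturality_apply α.hom _ _ _).trans ?_
      have hlift : liftBc f η V (fibTo (ι.comp (ResidueField.map ψ)) (pt hS) (η ≫ f) eS V l) =
          fibTo ι (pt hX) η rfl ((EtCoh.bc f).obj V) l' := by
        refine fiber_bc_ext f η ((liftHom_liftBc_fst f η V _).trans ?_)
        show Spec.map (CommRingCat.ofHom (ι.comp (ResidueField.map ψ))) ≫ liftHom (pt hS) l =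
          (Spec.map (CommRingCat.ofHom ι) ≫ liftHom (pt hX) l') ≫ bcFst f V
        rw [Category.assoc, liftHom_liftBc_fst]
        show _ = Spec.map _ ≫ Spec.map _ ≫ _
        rw [← Spec.map_comp_assoc, ← CommRingCat.ofHom_comp]
      rw [hlift]
      exact congrArg ((Scheme.pointSmallEtale η).toPresheafFiber ((EtCoh.bc f).obj V)
        (fibTo ι (pt hX) η rfl ((EtCoh.bc f).obj V) l')
        ((EtCoh.push h).obj ((EtCoh.pull e).obj F)).obj) congr($hb x)
    · let m := toBC hX h ((EtCoh.bc f).obj V) l'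
      have wm : m ≫ ((EtCoh.bc h).obj ((EtCoh.bc f).obj V)).hom = pX := toBC_w hX h _ _
      refine (congrArg (adjTop (rfl : pX ≫ e = pX ≫ e) F)
        (((ConcreteCategory.comp_apply _ _ _).symm.trans
          (congrArg (fun k => (ConcreteCategory.hom k) y') (toPresheafFiber_compare hX h _ l' ((EtCoh.pull e).obj F)))).trans
        ((ConcreteCategory.comp_apply _ _ _).symm.trans (congrArg (fun k => (ConcreteCategory.hom k) y)
          (restrSec_map (kappa g f h e hc V) m wm (m ≫ (kappa g f h e hc V).left)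
            ((Category.assoc _ _ _).trans ((congrArg (m ≫ ·) (MorphismProperty.Over.w (kappa g f h e hc V))).trans wm))
            rfl ((EtCoh.pull e).obj F)))))).trans ?_
      refine (adjTop_unit (rfl : pX ≫ e = pX ≫ e) F _ _ x).trans ?_
      refine Eq.trans ?_ (congrArg (trans hπ1 F) ((ConcreteCategory.comp_apply _ _ _).symm.trans
        (congrArg (fun k => (ConcreteCategory.hom k) x) (toPresheafFiber_compare hS g V l F)))).symm
      refine Eq.trans ?_ (trans_restrSec hπ1 F _ _ x).symm
      refine congrArg (fun k : F.obj.obj (op ((EtCoh.bc g).obj V)) ⟶ (gsecF _).obj ((EtCoh.pull (pX ≫ e)).obj F) =>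
        (ConcreteCategory.hom k) x) (restrSec_congr ?_ _ _ F)
      have hlift : liftOf hX ((EtCoh.bc f).obj V) l' ≫ bcFst f V =
          Spec.map (CommRingCat.ofHom ψ) ≫ liftOf hS V l := by
        haveI : Etale V.hom := V.prop
        refine lift_unique V.hom ?_ ?_
        · rw [Category.assoc, Category.assoc, liftOf_w, bcFst, pullback.condition, ← Category.assoc, ← hψ]
          exact congrArg (· ≫ f) (liftOf_w hX _ l')
        · rw [← Category.assoc, resPt_liftOf, liftHom_liftBc_fst, ← Category.assoc, resPt, ← Spec.map_comp]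
          show Spec.map (CommRingCat.ofHom (ResidueField.map ψ)) ≫ liftHom (pt hS) l = _
          rw [← resPt_liftOf hS V l, ← Category.assoc, resPt, ← Spec.map_comp]
          rfl
      apply pullback.hom_ext
      · rw [Category.assoc, Category.assoc, Category.assoc, toBC_fst, ← Category.assoc π,
          show π ≫ pullback.snd g hS = pullback.snd h hX ≫ Spec.map (CommRingCat.ofHom ψ) from pullback.lift_snd _ _ _,
          kappa_fst, ← Category.assoc m,
          show m ≫ bcFst h ((EtCoh.bc f).obj V) = pullback.snd h hX ≫ liftOf hX _ l' from toBC_fst hX h _ _,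
          Category.assoc, hlift, Category.assoc]
      · have hcd : bcFst e ((EtCoh.bc g).obj V) ≫ ((EtCoh.bc g).obj V).hom =
            ((EtCoh.bc e).obj ((EtCoh.bc g).obj V)).hom ≫ e := pullback.condition
        show ((m ≫ (kappa g f h e hc V).left) ≫ bcFst e _) ≫ ((EtCoh.bc g).obj V).hom = _
        rw [Category.assoc, hcd, ← Category.assoc, Category.assoc m]
        refine (congrArg (· ≫ e) ((congrArg (m ≫ ·) (MorphismProperty.Over.w (kappa g f h e hc V))).trans wm)).trans ?_
        exact hπ1.symm.trans ((congrArg (π ≫ ·) (toBC_w hS g V l).symm).trans (Category.assoc _ _ _).symm)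
  have hcS := bijective_compare hS g NS F
  have hcX := bijective_compare hX h NX ((EtCoh.pull e).obj F)
  have ht := bijective_trans hπ1 F hu
  have ha := bijective_adjTop (rfl : pX ≫ e = pX ≫ e) F
  have hS' := bijective_stalkTo (ι.comp (ResidueField.map ψ)) (pt hS) (η ≫ f) eS ((EtCoh.push g).obj F).obj
  have hX' := bijective_stalkTo ι (pt hX) η rfl ((EtCoh.push h).obj ((EtCoh.pull e).obj F)).obj
  refine ⟨fun a b hab => ?_, fun c => ?_⟩
  · obtain ⟨a, rfl⟩ := hS'.2 a
    obtain ⟨b, rfl⟩ := hS'.2 b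
    obtain ⟨wa, ha₁, ha₂⟩ := hkey a
    obtain ⟨wb, hb₁, hb₂⟩ := hkey b
    have : wa = wb := hX'.1 (ha₁.symm.trans (hab.trans hb₁))
    subst this
    rw [hcS.1 (ht.1 (ha₂.symm.trans hb₂))]
  · obtain ⟨w, rfl⟩ := hX'.2 c
    obtain ⟨y, hy⟩ := ht.2 (adjTop (rfl : pX ≫ e = pX ≫ e) F ((compare hX h).app ((EtCoh.pull e).obj F) w))
    obtain ⟨z, rfl⟩ := hcS.2 y
    obtain ⟨w', h₁, h₂⟩ := hkey z
    exact ⟨toS z, h₁.trans (congrArg toX (hcX.1 (ha.1 (h₂.trans hy))))⟩

end BC

/-- Base change along `f` for a given sheaf, when units are isomorphisms over all strict localizations. -/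
theorem isIso_baseChange0_of_localUnit {X S Y T : Scheme.{u}} (g : T ⟶ S) [QuasiCompact g] [QuasiSeparated g]
    (f : X ⟶ S) (h : Y ⟶ X) (e : Y ⟶ T) (hc : IsPullback e h g f) (F : EtCoh.Ab T)
    (hconn : ∀ (x : X) (RS : Type u) [CommRing RS] [IsLocalRing RS] [Algebra (S.presheaf.stalk (f.base x)) RS]
      [IsLocalHom (algebraMap (S.presheaf.stalk (f.base x)) RS)]
      [Hensel.IsStrictHenselization (S.presheaf.stalk (f.base x)) RS]
      (RX : Type u) [CommRing RX] [IsLocalRing RX] [Algebra (X.presheaf.stalk x) RX]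
      [IsLocalHom (algebraMap (X.presheaf.stalk x) RX)] [Hensel.IsStrictHenselization (X.presheaf.stalk x) RX]
      (ψ : RS →+* RX) [IsLocalHom ψ],
      ψ.comp (algebraMap (S.presheaf.stalk (f.base x)) RS) = (algebraMap (X.presheaf.stalk x) RX).comp (f.stalkMap x).hom →
      ∀ π : pullback h (Hens2.specOf X x RX) ⟶ pullback g (Hens2.specOf S (f x) RS),
        IsPullback π (pullback.snd h _) (pullback.snd g _) (Spec.map (CommRingCat.ofHom ψ)) →
          IsIso ((EtCoh.pullPushAdj π).unit.app ((EtCoh.pull (pullback.fst g (Hens2.specOf S (f x) RS))).obj F))) :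
    IsIso (EtCoh.baseChange0 g f h e hc.w F) := by
  refine isIso_of_alg_ab _ fun y => ?_
  let η := geomPtAlg y
  suffices hb : Function.Bijective (bcStalk g f h e η F (EtCoh.baseChange0 g f h e hc.w F)) by
    exact (Function.Bijective.of_comp_iff _ (bijective_unitStalk f η ((EtCoh.push g).obj F))).1 hb
  generalize η = η₀
  clear η
  haveI : IsLocalRing (CommRingCat.of (AlgebraicClosure (X.residueField y))) :=
    inferInstanceAs (IsLocalRing (AlgebraicClosure (X.residueField y)))
  obtain ⟨a, ha, haη⟩ := exists_stalkHom η₀ _ rfl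
  let x := η₀ (closedPoint (CommRingCat.of (AlgebraicClosure (X.residueField y))))
  haveI := ha
  obtain ⟨RX, _, _, _, _, hRX⟩ := Henselization.exists_strictHenselization (X.presheaf.stalk x)
  obtain ⟨RS, _, _, _, _, hRS⟩ := Henselization.exists_strictHenselization (S.presheaf.stalk (f x))
  haveI := hRX
  haveI := hRS
  haveI := Hensel.IsStrictHenselization.henselian (R := X.presheaf.stalk x) (S := RX)
  haveI := Hensel.IsStrictHenselization.henselian (R := S.presheaf.stalk (f x)) (S := RS)
  have hsepX := Hensel.IsStrictHenselization.isSepClosure (R := X.presheaf.stalk x) (S := RX)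
  have hsepS := Hensel.IsStrictHenselization.isSepClosure (R := S.presheaf.stalk (f x)) (S := RS)
  haveI : IsSepClosed (ResidueField RX) := hsepX.sep_closed
  haveI : IsSepClosed (ResidueField RS) := hsepS.sep_closed
  let α : ResidueField (X.presheaf.stalk x) →+* AlgebraicClosure (X.residueField y) := ResidueField.lift a.hom
  letI : Algebra (ResidueField (X.presheaf.stalk x)) (AlgebraicClosure (X.residueField y)) := α.toAlgebra
  haveI : Algebra.IsSeparable (ResidueField (X.presheaf.stalk x)) (ResidueField RX) := hsepX.separable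
  let ι : ResidueField RX →ₐ[ResidueField (X.presheaf.stalk x)] AlgebraicClosure (X.residueField y) := IsSepClosed.lift
  let φ : S.presheaf.stalk (f x) →+* RX := (algebraMap (X.presheaf.stalk x) RX).comp (f.stalkMap x).hom
  haveI : IsLocalHom φ := RingHom.isLocalHom_comp _ _
  letI : Algebra (ResidueField (S.presheaf.stalk (f x))) (ResidueField RX) := (ResidueField.map φ).toAlgebra
  haveI : Algebra.IsSeparable (ResidueField (S.presheaf.stalk (f x))) (ResidueField RS) := hsepS.separable
  let τ : ResidueField RS →ₐ[ResidueField (S.presheaf.stalk (f x))] ResidueField RX := IsSepClosed.lift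
  obtain ⟨ψ, ⟨hψφ, hψr⟩, -⟩ := Hensel.IsStrictHenselization.universal (R := S.presheaf.stalk (f x)) (S := RS)
    RX φ τ.toRingHom (RingHom.ext fun z => τ.commutes z)
  haveI : IsLocalHom ψ := ⟨fun r hr => by
    by_contra hn
    have h0 : residue RX (ψ r) = 0 := by
      rw [hψr, (residue_eq_zero_iff r).2 hn, map_zero]
    exact (residue_eq_zero_iff (ψ r)).1 h0 hr⟩
  have hu₀ := hconn x RS RX ψ hψφ
  have hψ : Hens2.specOf X x RX ≫ f = Spec.map (CommRingCat.ofHom ψ) ≫ Hens2.specOf S (f x) RS := by
    show (Spec.map _ ≫ X.fromSpecStalk x) ≫ f = Spec.map _ ≫ Spec.map _ ≫ S.fromSpecStalk (f x)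
    rw [Category.assoc, ← Scheme.SpecMap_stalkMap_fromSpecStalk, ← Category.assoc, ← Category.assoc, ← Spec.map_comp,
      ← Spec.map_comp]
    exact congrArg (fun m => Spec.map m ≫ S.fromSpecStalk (f x)) (CommRingCat.hom_ext hψφ.symm)
  obtain ⟨NS⟩ := exists_nbhdSys (Hens2.specOf S (f x) RS) (bijective_germVal S (f x) RS)
  obtain ⟨NX⟩ := exists_nbhdSys (Hens2.specOf X x RX) (bijective_germVal X x RX)
  have e' : Spec.map (CommRingCat.ofHom ι.toRingHom) ≫ pt (Hens2.specOf X x RX) = η₀ := by
    refine Eq.trans ?_ haη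
    show Spec.map _ ≫ Spec.map _ ≫ Spec.map _ ≫ X.fromSpecStalk x = Spec.map a ≫ X.fromSpecStalk x
    rw [← Category.assoc, ← Category.assoc, ← Spec.map_comp, ← Spec.map_comp]
    exact congrArg (fun m => Spec.map m ≫ X.fromSpecStalk x) (CommRingCat.hom_ext (RingHom.ext fun z =>
      ι.commutes (residue (X.presheaf.stalk x) z)))
  rw [← e']
  exact bcStalk_bijective_of_strictLoc g f h e hc (Hens2.specOf S (f x) RS) (Hens2.specOf X x RX) ψ hψ NS NX
    ι.toRingHom F hu₀

/-- Base change along `f`, when units are isomorphisms along the maps of strict localizations. -/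
theorem isIso_baseChange0_of_unit {X S Y T : Scheme.{u}} (g : T ⟶ S) [QuasiCompact g] [QuasiSeparated g]
    (f : X ⟶ S) (h : Y ⟶ X) (e : Y ⟶ T) (hc : IsPullback e h g f)
    (hconn : ∀ (x : X) (RS : Type u) [CommRing RS] [IsLocalRing RS] [Algebra (S.presheaf.stalk (f.base x)) RS]
      [IsLocalHom (algebraMap (S.presheaf.stalk (f.base x)) RS)]
      [Hensel.IsStrictHenselization (S.presheaf.stalk (f.base x)) RS]
      (RX : Type u) [CommRing RX] [IsLocalRing RX] [Algebra (X.presheaf.stalk x) RX]
      [IsLocalHom (algebraMap (X.presheaf.stalk x) RX)] [Hensel.IsStrictHenselization (X.presheaf.stalk x) RX]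
      (ψ : RS →+* RX) [IsLocalHom ψ],
      ψ.comp (algebraMap (S.presheaf.stalk (f.base x)) RS) = (algebraMap (X.presheaf.stalk x) RX).comp (f.stalkMap x).hom →
      UnitBijAlong ψ)
    (F : EtCoh.Ab T) : IsIso (EtCoh.baseChange0 g f h e hc.w F) :=
  isIso_baseChange0_of_localUnit g f h e hc F fun x RS _ _ _ _ _ RX _ _ _ _ _ ψ _ hψ _ sq =>
    hconn x RS RX ψ hψ sq _

/-- Base change along `f`, when the maps of strict localizations are flat with geometrically connected fibres. -/
theorem isIso_baseChange0_of_strictLoc {X S Y T : Scheme.{u}} (g : T ⟶ S) [QuasiCompact g] [QuasiSeparated g]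
    (f : X ⟶ S) (h : Y ⟶ X) (e : Y ⟶ T) (hc : IsPullback e h g f)
    (hconn : ∀ (x : X) (RS : Type u) [CommRing RS] [IsLocalRing RS] [Algebra (S.presheaf.stalk (f.base x)) RS]
      [IsLocalHom (algebraMap (S.presheaf.stalk (f.base x)) RS)]
      [Hensel.IsStrictHenselization (S.presheaf.stalk (f.base x)) RS]
      (RX : Type u) [CommRing RX] [IsLocalRing RX] [Algebra (X.presheaf.stalk x) RX]
      [IsLocalHom (algebraMap (X.presheaf.stalk x) RX)] [Hensel.IsStrictHenselization (X.presheaf.stalk x) RX]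
      (ψ : RS →+* RX) [IsLocalHom ψ],
      ψ.comp (algebraMap (S.presheaf.stalk (f.base x)) RS) = (algebraMap (X.presheaf.stalk x) RX).comp (f.stalkMap x).hom →
      Flat (Spec.map (CommRingCat.ofHom ψ)) ∧ GeometricallyConnected (Spec.map (CommRingCat.ofHom ψ)))
    (F : EtCoh.Ab T) : IsIso (EtCoh.baseChange0 g f h e hc.w F) :=
  isIso_baseChange0_of_unit g f h e hc
    (fun x RS _ _ _ _ _ RX _ _ _ _ _ ψ _ hψ => unitBijAlong_of_flat ψ (hconn x RS RX ψ hψ).1 (hconn x RS RX ψ hψ).2) F

/-- Base change along a flat morphism with connected fibres of strict localizations. -/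
theorem isIso_baseChange0_of_flat {X S Y T : Scheme.{u}} (g : T ⟶ S) [QuasiCompact g] [QuasiSeparated g]
    (f : X ⟶ S) [Flat f] (h : Y ⟶ X) (e : Y ⟶ T) (hc : IsPullback e h g f)
    (hconn : ∀ (x : X) (RS : Type u) [CommRing RS] [IsLocalRing RS] [Algebra (S.presheaf.stalk (f.base x)) RS]
      [IsLocalHom (algebraMap (S.presheaf.stalk (f.base x)) RS)]
      [Hensel.IsStrictHenselization (S.presheaf.stalk (f.base x)) RS]
      (RX : Type u) [CommRing RX] [IsLocalRing RX] [Algebra (X.presheaf.stalk x) RX]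
      [IsLocalHom (algebraMap (X.presheaf.stalk x) RX)] [Hensel.IsStrictHenselization (X.presheaf.stalk x) RX]
      (ψ : RS →+* RX) [IsLocalHom ψ],
      ψ.comp (algebraMap (S.presheaf.stalk (f.base x)) RS) = (algebraMap (X.presheaf.stalk x) RX).comp (f.stalkMap x).hom →
      ∀ (Ω : Type u) [Field Ω] [IsAlgClosed Ω] (η : Spec (CommRingCat.of Ω) ⟶ Spec (CommRingCat.of RS)),
        ConnectedSpace ↥(pullback (Spec.map (CommRingCat.ofHom ψ)) η))
    (F : EtCoh.Ab T) : IsIso (EtCoh.baseChange0 g f h e hc.w F) := by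
  refine isIso_baseChange0_of_strictLoc g f h e hc (fun x RS _ _ _ _ _ RX _ _ _ _ _ ψ _ hψ => ⟨?_,
    geometricallyConnected_of_algClosed _ (hconn x RS RX ψ hψ)⟩) F
  rw [HasRingHomProperty.Spec_iff (P := @Flat)]
  refine flat_of_strictHenselization (A := S.presheaf.stalk (f.base x)) (R := RS) ψ ?_
  rw [hψ]
  exact RingHom.Flat.comp (Flat.stalkMap f x)
    (RingHom.flat_algebraMap_iff.2 (ProEtLib2.flat_of_isIndEtale (S12237.result (X.presheaf.stalk x) RX)))

end Groth.Agent.StrictLocLib
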