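import Groth.Agent.EtLimLib.System
import Groth.Agent.EtPtsLib.OpenShriek
import Groth.Agent.EtJCont.Basic

/-!
# Sections of a sheaf over an étale scheme as global sections of the inverse image
-/

set_option autoImplicit false
set_option linter.unusedSectionVars false
set_option linter.style.haveILetI false
set_option backward.isDefEq.respectTransparency false
set_option backward.isDefEq.respectTransparency.types false

universe u

open CategoryTheory CategoryTheory.Limits AlgebraicGeometry Opposite

noncomputable section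

namespace Groth.Agent.StrictLocLib

variable {X Y : Scheme.{u}}

/-- The section of `W ×_X Y → Y` given by a map `Y → W` over `X`. -/
def secMor {g : Y ⟶ X} {W : X.Etale} (m : Y ⟶ W.left) (w : m ≫ W.hom = g) :
    EtCoh.top Y ⟶ (EtCoh.bc g).obj W :=
  MorphismProperty.Over.homMk (pullback.lift m (𝟙 Y) (w.trans (Category.id_comp g).symm))
    (pullback.lift_snd _ _ _)

theorem secMor_fst {g : Y ⟶ X} {W : X.Etale} (m : Y ⟶ W.left) (w : m ≫ W.hom = g) :
    (secMor m w).left ≫ pullback.fst W.hom g = m := pullback.lift_fst _ _ _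

/-- Restriction of a section over `W` along a map `Y → W` over `X`, as a global section of the
inverse image on `Y`. -/
def restrSec {g : Y ⟶ X} {W : X.Etale} (m : Y ⟶ W.left) (w : m ≫ W.hom = g) (F : EtCoh.Ab X) :
    F.obj.obj (op W) ⟶ ((EtCoh.pull g).obj F).obj.obj (op (EtCoh.top Y)) :=
  ((EtCoh.pullPushAdj g).unit.app F).hom.app (op W) ≫ ((EtCoh.pull g).obj F).obj.map (secMor m w).op

theorem restrSec_natural {g : Y ⟶ X} {W : X.Etale} (m : Y ⟶ W.left) (w : m ≫ W.hom = g) {F G : EtCoh.Ab X}
    (a : F ⟶ G) :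
    a.hom.app (op W) ≫ restrSec m w G = restrSec m w F ≫ ((EtCoh.pull g).map a).hom.app (op (EtCoh.top Y)) := by
  have h1 := congrArg (fun φ => φ.hom.app (op W)) ((EtCoh.pullPushAdj g).unit.naturality a)
  have h2 := ((EtCoh.pull g).map a).hom.naturality (secMor m w).op
  refine (Category.assoc _ _ _).symm.trans ((congrArg (· ≫ _) h1).trans ?_)
  exact (Category.assoc _ _ _).trans ((congrArg (((EtCoh.pullPushAdj g).unit.app F).hom.app (op W) ≫ ·) h2.symm).trans
    (Category.assoc _ _ _).symm)

theorem restrSec_map {g : Y ⟶ X} {W W' : X.Etale} (r : W' ⟶ W) (m : Y ⟶ W'.left) (w : m ≫ W'.hom = g)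
    (m' : Y ⟶ W.left) (w' : m' ≫ W.hom = g) (e : m ≫ r.left = m') (F : EtCoh.Ab X) :
    F.obj.map r.op ≫ restrSec m w F = restrSec m' w' F := by
  have h1 := ((EtCoh.pullPushAdj g).unit.app F).hom.naturality r.op
  refine (Category.assoc _ _ _).symm.trans ((congrArg (· ≫ _) h1).trans ((Category.assoc _ _ _).trans ?_))
  refine congrArg (((EtCoh.pullPushAdj g).unit.app F).hom.app (op W) ≫ ·) ?_
  show ((EtCoh.pull g).obj F).obj.map ((EtCoh.bc g).map r).op ≫ ((EtCoh.pull g).obj F).obj.map (secMor m w).op = _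
  rw [← Functor.map_comp, ← op_comp]
  congr 2
  refine EtLimLib.bc_ext g ?_
  rw [secMor_fst m' w']
  show ((secMor m w).left ≫ ((EtCoh.bc g).map r).left) ≫ _ = _
  rw [Category.assoc, EtLimLib.bc_map_fst, ← Category.assoc, secMor_fst, e]

/-- For an étale scheme the restriction to itself is bijective. -/
theorem bijective_restrSec_self (W : X.Etale) (F : EtCoh.Ab X) :
    Function.Bijective (restrSec (g := W.hom) (𝟙 W.left) (Category.id_comp _) F) := by
  haveI : Etale W.hom := W.prop
  haveI : EtShriek.JCont W.hom := EtJCont.jCont W.hom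
  let α := EtPtsLib.pullIsoRestr W.hom
  let d := secMor (g := W.hom) (W := W) (𝟙 W.left) (Category.id_comp _)
  let c : (EtShriek.compEtale W.hom).obj (EtCoh.top W.left) ⟶ W :=
    (EtShriek.compEtale W.hom).map d ≫ (EtPtsLib.compBcAdj W.hom).counit.app W
  haveI : IsIso c := by
    have hl : c.left = 𝟙 W.left := by
      show d.left ≫ (𝟙 ((EtCoh.bc W.hom).obj W).left ≫ pullback.fst W.hom W.hom) = _
      rw [Category.id_comp]
      exact secMor_fst _ _
    let i : (EtShriek.compEtale W.hom).obj (EtCoh.top W.left) ≅ W :=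
      MorphismProperty.Over.isoMk (Iso.refl _) ((Category.id_comp W.hom).trans (Category.id_comp W.hom).symm)
    rw [show c = i.hom from MorphismProperty.Over.Hom.ext hl]
    infer_instance
  have h1 : (EtCoh.pullPushAdj W.hom).unit.app F ≫ (EtCoh.push W.hom).map (α.hom.app F) =
      (EtPtsLib.restrPushAdj W.hom).unit.app F :=
    Adjunction.unit_leftAdjointUniq_hom_app _ _ F
  have key : restrSec (g := W.hom) (𝟙 W.left) (Category.id_comp _) F ≫ (α.hom.app F).hom.app (op (EtCoh.top W.left)) =
      F.obj.map c.op := by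
    refine (Category.assoc _ _ _).trans ((congrArg (_ ≫ ·) ((α.hom.app F).hom.naturality d.op)).trans ?_)
    refine (Category.assoc _ _ _).symm.trans ?_
    refine (congrArg (· ≫ _) (congrArg (fun φ => φ.hom.app (op W)) h1)).trans ?_
    show F.obj.map ((EtPtsLib.compBcAdj W.hom).counit.app W).op ≫ F.obj.map ((EtShriek.compEtale W.hom).map d).op = _
    rw [← Functor.map_comp, ← op_comp]
  haveI : IsIso ((α.hom.app F).hom.app (op (EtCoh.top W.left))) :=
    inferInstanceAs (IsIso (((ObjectProperty.ι _).mapIso (α.app F)).app (op (EtCoh.top W.left))).hom)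
  haveI : IsIso (restrSec (g := W.hom) (𝟙 W.left) (Category.id_comp _) F) := by
    haveI : IsIso (restrSec (g := W.hom) (𝟙 W.left) (Category.id_comp _) F ≫
      (α.hom.app F).hom.app (op (EtCoh.top W.left))) := by rw [key]; infer_instance
    exact IsIso.of_isIso_comp_right _ ((α.hom.app F).hom.app (op (EtCoh.top W.left)))
  exact ConcreteCategory.bijective_of_isIso _

open EtLimLib in
/-- The transfer of a restricted section along `t : C → Y`. -/
theorem restrSec_transfer {C : Scheme.{u}} {q : Y ⟶ X} {t : C ⟶ Y} {g : C ⟶ X} (hw : t ≫ q = g)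
    {W : X.Etale} (m : Y ⟶ W.left) (w : m ≫ W.hom = q) (F : EtCoh.Ab X)
    (ψ : (EtCoh.pull q).obj F ⟶ (EtCoh.push t).obj ((EtCoh.pull g).obj F))
    (hψ : (EtCoh.pullPushAdj q).unit.app F ≫ (EtCoh.push q).map ψ =
      (EtCoh.pullPushAdj g).unit.app F ≫ (pushSp q t g hw).app ((EtCoh.pull g).obj F))
    (e : EtCoh.top C ⟶ (EtCoh.bc t).obj (EtCoh.top Y)) (x : EtCoh.sect F W) :
    ((EtCoh.pull g).obj F).obj.map e.op (ψ.hom.app (op (EtCoh.top Y)) (restrSec m w F x)) =
      restrSec (t ≫ m) (by rw [Category.assoc, w, hw]) F x := by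
  let P := (EtCoh.pull g).obj F
  have h1 := congr(($hψ).hom.app (op W) x)
  have he : e.left ≫ pullback.fst (EtCoh.top Y).hom t = t := by
    have hs : e.left ≫ pullback.snd (EtCoh.top Y).hom t = 𝟙 C := MorphismProperty.Over.w e
    have hc := congrArg (e.left ≫ ·) (pullback.condition (f := (EtCoh.top Y).hom) (g := t))
    rw [← Category.assoc, ← Category.assoc, hs] at hc
    exact (Category.comp_id _).symm.trans (hc.trans (Category.id_comp _))
  have h2 : ψ.hom.app (op (EtCoh.top Y)) (restrSec m w F x) =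
      P.obj.map ((EtCoh.bc t).map (secMor m w)).op
        (P.obj.map (bcSp q t g hw W).op (((EtCoh.pullPushAdj g).unit.app F).hom.app (op W) x)) := by
    refine (NatTrans.naturality_apply ψ.hom (secMor m w).op _).trans ?_
    exact congrArg (P.obj.map ((EtCoh.bc t).map (secMor m w)).op) h1
  rw [h2, ← Functor.map_comp_apply, ← Functor.map_comp_apply, ← op_comp, ← op_comp]
  show _ = P.obj.map _ _
  congr 3
  refine congrArg Quiver.Hom.op (bc_ext g ?_)
  rw [secMor_fst]
  show ((e.left ≫ ((EtCoh.bc t).map (secMor m w)).left ≫ (bcSp q t g hw W).left)) ≫ _ = _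
  rw [Category.assoc, Category.assoc, bcSp_fst, reassoc_of% (bc_map_fst t (secMor m w)), secMor_fst,
    ← Category.assoc, he]

end Groth.Agent.StrictLocLib
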