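import Groth.Agent.StrictLocLib.Germ
import Groth.Prelude.Def_Hens2

/-!
# The étale local ring at the geometric point of a strict henselization is that strict henselization
-/

set_option autoImplicit false
set_option linter.unusedSectionVars false
set_option linter.style.haveILetI false
set_option backward.isDefEq.respectTransparency false
set_option backward.isDefEq.respectTransparency.types false

universe u

open CategoryTheory CategoryTheory.Limits AlgebraicGeometry Opposite IsLocalRing
open Groth.Agent.EtPtsLib

noncomputable section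

namespace Groth.Agent.StrictLocLib

theorem exists_stalkHom {S : Scheme.{u}} {E : CommRingCat.{u}} [IsLocalRing E] (H : Spec E ⟶ S) (x : S)
    (hx : H (closedPoint E) = x) :
    ∃ f : S.presheaf.stalk x ⟶ E, IsLocalHom f.hom ∧ Spec.map f ≫ S.fromSpecStalk x = H := by
  subst hx
  exact ⟨Scheme.stalkClosedPointTo H, inferInstance, Scheme.Spec_stalkClosedPointTo_fromSpecStalk H⟩

theorem stalkHom_ext {S : Scheme.{u}} {x : S} {A : CommRingCat.{u}} {f g : S.presheaf.stalk x ⟶ A}
    (h : Spec.map f ≫ S.fromSpecStalk x = Spec.map g ≫ S.fromSpecStalk x) : f = g :=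
  Spec.map_injective ((cancel_mono (S.fromSpecStalk x)).1 h)

variable (S : Scheme.{u}) (s : S) (R : Type u) [CommRing R] [HenselianLocalRing R]
  [IsSepClosed (ResidueField R)] [Algebra (S.presheaf.stalk s) R] [IsLocalHom (algebraMap (S.presheaf.stalk s) R)]
  [Hensel.IsStrictHenselization (S.presheaf.stalk s) R]

/-- The étale local ring at the geometric point of a strict henselization maps bijectively to it. -/
theorem bijective_germVal : Function.Bijective (germVal (Hens2.specOf S s R)).hom := by
  let h := Hens2.specOf S s R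
  let ξ := pt h
  let E := EtBase.etaleLocalRing ξ
  let φ := germVal h
  let ev := EtLocalLib.evR ξ
  haveI hev : IsLocalHom ev.hom := ⟨fun r hr => by
    by_contra hn
    exact hr.ne_zero ((EtLocalLib.evR_eq_zero_iff ξ r).2 hn)⟩
  have hξH : Spec.map ev ≫ toBase h = ξ := by
    obtain ⟨U, _, ⟨l⟩⟩ := exists_affine_nbhd h
    rw [← toNbhd_w h U l, ← Category.assoc, evR_toNbhd]
    exact liftHom_comp ξ l
  have hH : toBase h (closedPoint E) = s := by
    have e : ξ (closedPoint (ResidueField R)) = toBase h (closedPoint E) :=
      ((congrArg (fun g : Spec (CommRingCat.of (ResidueField R)) ⟶ S => g (closedPoint (ResidueField R))) hξH).symm.trans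
        (Scheme.Hom.comp_apply (Spec.map ev) (toBase h) _)).trans
        (congrArg (toBase h) (IsLocalRing.comap_closedPoint ev.hom))
    rw [← e]
    show (resPt R ≫ Spec.map (CommRingCat.ofHom (algebraMap (S.presheaf.stalk s) R)) ≫ S.fromSpecStalk s) _ = s
    rw [Scheme.Hom.comp_apply, Scheme.Hom.comp_apply, resPt_apply]
    refine Eq.trans ?_ (Scheme.fromSpecStalk_closedPoint (x := s))
    exact congrArg _ (IsLocalRing.comap_closedPoint (algebraMap (S.presheaf.stalk s) R))
  obtain ⟨f, hfl, hf⟩ := exists_stalkHom (toBase h) s hH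
  have hfev : f ≫ ev = CommRingCat.ofHom (algebraMap (S.presheaf.stalk s) R) ≫ CommRingCat.ofHom (residue R) :=
    stalkHom_ext (by
      rw [Spec.map_comp, Spec.map_comp, Category.assoc, hf, hξH, Category.assoc])
  obtain ⟨hhen, hsep⟩ := EtLocalLib.isStrictlyHenselian ξ
  haveI := hsep
  haveI := hfl
  let ι : ResidueField E →+* ResidueField R := ResidueField.lift ev.hom
  have hιf : ι.comp (ResidueField.map f.hom) = ResidueField.map (algebraMap (S.presheaf.stalk s) R) :=
    RingHom.ext fun x => by
      obtain ⟨x, rfl⟩ := residue_surjective x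
      exact congrArg (fun g => g x) (congrArg CommRingCat.Hom.hom hfev)
  have hι : Function.Bijective ι := by
    letI : Algebra (ResidueField E) (ResidueField R) := ι.toAlgebra
    letI : Algebra (ResidueField (S.presheaf.stalk s)) (ResidueField E) := (ResidueField.map f.hom).toAlgebra
    haveI : IsScalarTower (ResidueField (S.presheaf.stalk s)) (ResidueField E) (ResidueField R) :=
      .of_algebraMap_eq fun x => (RingHom.congr_fun hιf x).symm
    haveI : Algebra.IsSeparable (ResidueField (S.presheaf.stalk s)) (ResidueField R) :=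
      (Hensel.IsStrictHenselization.isSepClosure (R := S.presheaf.stalk s) (S := R)).separable
    haveI : Algebra.IsSeparable (ResidueField E) (ResidueField R) :=
      Algebra.isSeparable_tower_top_of_isSeparable (ResidueField (S.presheaf.stalk s)) _ _
    exact ⟨ι.injective, IsSepClosed.algebraMap_surjective (ResidueField E) (ResidueField R)⟩
  let e := RingEquiv.ofBijective ι hι
  obtain ⟨ψ, ⟨hψf, hψr⟩, -⟩ := Hensel.IsStrictHenselization.universal (R := S.presheaf.stalk s) (S := R)
    E f.hom e.symm.toRingHom (RingHom.ext fun x => e.injective ((e.apply_symm_apply _).trans (RingHom.congr_fun hιf x).symm))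
  have hevψ : ev.hom.comp ψ = residue R := RingHom.ext fun r => by
    show ι (residue E (ψ r)) = _
    rw [hψr]
    exact e.apply_symm_apply _
  have hψh : Spec.map (CommRingCat.ofHom ψ) ≫ h = toBase h := by
    show Spec.map (CommRingCat.ofHom ψ) ≫ Spec.map _ ≫ _ = _
    rw [← Category.assoc, ← Spec.map_comp, ← CommRingCat.ofHom_comp, hψf]
    exact hf
  have hφres : (residue R).comp φ.hom = ev.hom := congrArg CommRingCat.Hom.hom (germVal_residue h)
  have hφψ : φ.hom.comp ψ = RingHom.id R := by
    obtain ⟨g₀, -, hu⟩ := Hensel.IsStrictHenselization.universal (R := S.presheaf.stalk s) (S := R) R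
      (algebraMap (S.presheaf.stalk s) R) (RingHom.id _) (RingHom.id_comp _)
    refine (hu (φ.hom.comp ψ) ⟨?_, fun r => ?_⟩).trans (hu (RingHom.id R) ⟨RingHom.id_comp _, fun r => rfl⟩).symm
    · refine congrArg CommRingCat.Hom.hom (stalkHom_ext
        (f := CommRingCat.ofHom ((φ.hom.comp ψ).comp (algebraMap (S.presheaf.stalk s) R)))
        (g := CommRingCat.ofHom (algebraMap (S.presheaf.stalk s) R)) ?_)
      rw [RingHom.comp_assoc, hψf]
      show Spec.map (f ≫ φ) ≫ _ = _
      rw [Spec.map_comp, Category.assoc, hf]
      exact germVal_toBase h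
    · exact (RingHom.congr_fun hφres (ψ r)).trans (RingHom.congr_fun hevψ r)
  refine ⟨fun a b hab => ?_, fun r => ⟨ψ r, RingHom.congr_fun hφψ r⟩⟩
  have key : ∀ x, ψ (φ.hom x) = x := fun x => by
    obtain ⟨U, l, t, rfl⟩ := EtLocalLib.germR_surjective ξ x
    obtain ⟨V, hV, g, m, rfl⟩ := exists_affine_refinement h U l
    have e1 : toNbhd h V m = Spec.map (CommRingCat.ofHom ψ) ≫ liftOf h V m := by
      haveI : Etale V.hom := V.prop
      refine lift_unique (A := E) V.hom ?_ ?_
      · rw [Category.assoc, liftOf_w, toNbhd_w]
        exact hψh.symm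
      · haveI : Epi (CommRingCat.ofHom (residue E)) := ConcreteCategory.epi_of_surjective _ residue_surjective
        haveI : IsIso (CommRingCat.ofHom ι) := (ConcreteCategory.isIso_iff_bijective _).2 hι
        refine (cancel_epi (Spec.map (CommRingCat.ofHom ι))).1 ?_
        rw [← Category.assoc, ← Category.assoc, ← Spec.map_comp]
        show Spec.map ev ≫ toNbhd h V m = Spec.map ev ≫ _
        rw [evR_toNbhd, ← Category.assoc, ← Spec.map_comp,
          show CommRingCat.ofHom ψ ≫ ev = CommRingCat.ofHom (residue R) from CommRingCat.hom_ext hevψ,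
          resPt_liftOf]
    rw [← EtLocalLib.germR_map]
    let t' := g.left.appTop.hom t
    show ψ (φ.hom (EtLocalLib.germR ξ V m t')) = EtLocalLib.germR ξ V m t'
    rw [← germVal_toNbhd, toNbhd, ← Category.assoc, ← Category.assoc, ← Spec.map_comp, ← Spec.map_comp] at e1
    exact (congrArg (fun z : Γ(V.left, ⊤) ⟶ E => z.hom t') (Spec.map_injective ((cancel_mono V.left.isoSpec.inv).1 e1))).symm
  rw [← key a, ← key b, hab]

end Groth.Agent.StrictLocLib
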