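import Groth.Agent.StrictLocLib.System
import Groth.Agent.StrictLocLib.Sections
import Groth.Agent.EtLimLib.OverSys
import Groth.Agent.EtLimLib.Acyclic
import Groth.Agent.S19626

/-!
# Stalks of direct images as sections over the strict localization
-/

set_option autoImplicit false
set_option linter.unusedSectionVars false
set_option linter.style.haveILetI false
set_option backward.isDefEq.respectTransparency false
set_option backward.isDefEq.respectTransparency.types false
set_option maxHeartbeats 1000000

universe u

open CategoryTheory CategoryTheory.Limits AlgebraicGeometry Opposite IsLocalRing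

noncomputable section

namespace Groth.Agent.StrictLocLib

variable {X S : Scheme.{u}} {R : Type u} [CommRing R] [HenselianLocalRing R] [IsSepClosed (ResidueField R)]
  (h : Spec (CommRingCat.of R) ⟶ S) (f : X ⟶ S)

/-- The projection of the base change to the strict localization. -/
abbrev proj : pullback f h ⟶ X := pullback.fst f h

/-- The map to the base change of a neighbourhood. -/
def toBC (U : S.Etale) (l : Fib h U) : pullback f h ⟶ ((EtCoh.bc f).obj U).left :=
  pullback.lift (pullback.snd f h ≫ liftOf h U l) (proj h f) (by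
    rw [Category.assoc]
    exact (congrArg (pullback.snd f h ≫ ·) (liftOf_w h U l)).trans pullback.condition.symm)

theorem toBC_w (U : S.Etale) (l : Fib h U) : toBC h f U l ≫ ((EtCoh.bc f).obj U).hom = proj h f :=
  pullback.lift_snd _ _ _

theorem toBC_fst (U : S.Etale) (l : Fib h U) :
    toBC h f U l ≫ pullback.fst U.hom f = pullback.snd f h ≫ liftOf h U l :=
  pullback.lift_fst _ _ _

theorem toBC_map {U V : S.Etale} (g : V ⟶ U) (l : Fib h V) :
    toBC h f V l ≫ ((EtCoh.bc f).map g).left = toBC h f U (fibMap h g l) := by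
  apply pullback.hom_ext
  · rw [Category.assoc, EtLimLib.bc_map_fst, ← Category.assoc, toBC_fst, toBC_fst, Category.assoc, liftOf_map]
  · rw [Category.assoc]
    exact (congrArg (toBC h f V l ≫ ·) (MorphismProperty.Over.w ((EtCoh.bc f).map g))).trans
      ((toBC_w h f V l).trans (toBC_w h f U _).symm)

/-- Global sections. -/
abbrev gsecF (Z : Scheme.{u}) : EtCoh.Ab Z ⥤ AddCommGrpCat.{u + 1} :=
  sheafToPresheaf _ _ ⋙ (evaluation _ _).obj (op (EtCoh.top Z))

/-- The comparison of the stalk of a direct image with sections over the strict localization. -/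
def compare : EtCoh.push f ⋙ EtCoh.stalk (pt h) ⟶ EtCoh.pull (proj h f) ⋙ gsecF (pullback f h) where
  app F := (Scheme.pointSmallEtale (pt h)).presheafFiberDesc (P := ((EtCoh.push f).obj F).obj)
    (fun U l => restrSec (toBC h f U l) (toBC_w h f U l) F)
    (fun U V g l => restrSec_map ((EtCoh.bc f).map g) _ _ _ _ (toBC_map h f g l) F)
  naturality F G a := (Scheme.pointSmallEtale (pt h)).presheafFiber_hom_ext fun U l => by
    show (Scheme.pointSmallEtale (pt h)).toPresheafFiber U l _ ≫
        (Scheme.pointSmallEtale (pt h)).presheafFiber.map ((EtCoh.push f).map a).hom ≫ _ =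
      (Scheme.pointSmallEtale (pt h)).toPresheafFiber U l _ ≫ _ ≫ ((EtCoh.pull (proj h f)).map a).hom.app _
    refine ((Scheme.pointSmallEtale (pt h)).toPresheafFiber_naturality_assoc ((EtCoh.push f).map a).hom U l _).trans
      ((congrArg (_ ≫ ·) ((Scheme.pointSmallEtale (pt h)).toPresheafFiber_presheafFiberDesc _ _ U l)).trans
        ((restrSec_natural (toBC h f U l) (toBC_w h f U l) a).trans
          ((congrArg (· ≫ ((EtCoh.pull (proj h f)).map a).hom.app (op (EtCoh.top (pullback f h))))
            ((Scheme.pointSmallEtale (pt h)).toPresheafFiber_presheafFiberDesc (P := ((EtCoh.push f).obj F).obj)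
              (fun U l => restrSec (toBC h f U l) (toBC_w h f U l) F)
              (fun U V g l => restrSec_map ((EtCoh.bc f).map g) _ _ _ _ (toBC_map h f g l) F) U l).symm).trans
            (Category.assoc _ _ _))))

theorem toPresheafFiber_compare (U : S.Etale) (l : Fib h U) (F : EtCoh.Ab X) :
    (Scheme.pointSmallEtale (pt h)).toPresheafFiber U l ((EtCoh.push f).obj F).obj ≫ (compare h f).app F =
      restrSec (toBC h f U l) (toBC_w h f U l) F :=
  (Scheme.pointSmallEtale (pt h)).toPresheafFiber_presheafFiberDesc (P := ((EtCoh.push f).obj F).obj)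
    (fun U l => restrSec (toBC h f U l) (toBC_w h f U l) F)
    (fun U V g l => restrSec_map ((EtCoh.bc f).map g) _ _ _ _ (toBC_map h f g l) F) U l

variable [QuasiCompact f] [QuasiSeparated f] (N : NbhdSys h)

/-- A neighbourhood of the system. -/
abbrev nbU (i : N.ι) : S.Etale := (N.D.obj (op i)).fst

/-- Its point. -/
abbrev nbL (i : N.ι) : Fib h (nbU h N i) := (N.D.obj (op i)).snd

/-- The base changes of the neighbourhoods of the system. -/
abbrev bcScheme : Elts h ⥤ Scheme.{u} :=
  CategoryOfElements.π _ ⋙ EtCoh.bc f ⋙ Scheme.Etale.forget X ⋙ Over.forget X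

theorem bcScheme_map {x y : Elts h} (a : x ⟶ y) : (bcScheme h f).map a = ((EtCoh.bc f).map a.1).left := rfl

/-- The cone of the strict localization. -/
def bcCone : Cone (N.D ⋙ bcScheme h f) where
  pt := pullback f h
  π :=
    { app := fun i => toBC h f (N.D.obj i).fst (N.D.obj i).snd
      naturality := fun i j a => (Category.id_comp _).trans
        (((congrArg (toBC h f (N.D.obj j).fst) (N.D.map a).2.symm)).trans (toBC_map h f (N.D.map a).1 _).symm) }

/-- The strict localization of `X` is the limit of the base changes. -/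
def isLimitBcCone : IsLimit (bcCone h f N) where
  lift T := pullback.lift (T.π.app (op (Classical.arbitrary N.ι)) ≫ ((EtCoh.bc f).obj (nbU h N _)).hom)
    (N.isLimit.lift
      { pt := T.pt
        π :=
          { app := fun i => T.π.app i ≫ pullback.fst (N.D.obj i).fst.hom f
            naturality := fun i j a => by
              refine (Category.id_comp _).trans ?_
              show T.π.app j ≫ _ = (T.π.app i ≫ _) ≫ (N.D.map a).1.left
              rw [← T.w a, Category.assoc, Category.assoc]
              exact congrArg (T.π.app i ≫ ·) (EtLimLib.bc_map_fst f (N.D.map a).1) } })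
    (by
      let i₀ := Classical.arbitrary N.ι
      refine Eq.trans ?_ (congrArg (_ ≫ ·) (liftOf_w h (nbU h N i₀) (nbL h N i₀)))
      rw [← Category.assoc (N.isLimit.lift _), Category.assoc]
      refine Eq.trans ?_ (congrArg (fun m : T.pt ⟶ (nbU h N i₀).left => m ≫ (nbU h N i₀).hom)
        (N.isLimit.fac (Cone.mk T.pt _) (op i₀))).symm
      show T.π.app (op i₀) ≫ pullback.snd _ _ ≫ f = (T.π.app (op i₀) ≫ pullback.fst _ _) ≫ _
      exact (congrArg (T.π.app (op i₀) ≫ ·) pullback.condition.symm).trans (Category.assoc _ _ _).symm)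
  fac T i := by
    apply pullback.hom_ext
    · show (_ ≫ toBC h f _ _) ≫ _ = _
      refine (Category.assoc _ _ _).trans ((congrArg (_ ≫ ·) (toBC_fst h f _ _)).trans
        ((pullback.lift_snd_assoc _ _ _ _).trans ?_))
      exact N.isLimit.fac _ i
    · show (_ ≫ toBC h f _ _) ≫ pullback.snd _ _ = _
      rw [Category.assoc]
      refine (congrArg (_ ≫ ·) (pullback.lift_snd _ _ _)).trans ?_
      rw [pullback.lift_fst]
      obtain ⟨k, h₁, h₂⟩ := directed_of (α := N.ι) (· ≤ ·) (Classical.arbitrary N.ι) i.unop
      have e : ∀ (j : N.ιᵒᵖ) (a : op k ⟶ j),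
          T.π.app j ≫ ((EtCoh.bc f).obj (N.D.obj j).fst).hom =
            T.π.app (op k) ≫ ((EtCoh.bc f).obj (N.D.obj (op k)).fst).hom := fun j a => by
        rw [← T.w a, Category.assoc]
        exact congrArg (T.π.app (op k) ≫ ·) (MorphismProperty.Over.w ((EtCoh.bc f).map (N.D.map a).1))
      exact (e _ (homOfLE h₁).op).trans (e i (homOfLE h₂).op).symm
  uniq T m hm := by
    apply pullback.hom_ext
    · rw [pullback.lift_fst]
      exact (congrArg (m ≫ ·) (toBC_w h f _ _).symm).trans
        ((Category.assoc _ _ _).symm.trans (congrArg (· ≫ _) (hm (op (Classical.arbitrary N.ι)))))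
    · rw [pullback.lift_snd]
      refine N.isLimit.hom_ext fun i => ?_
      rw [N.isLimit.fac]
      show (m ≫ pullback.snd f h) ≫ liftOf h _ _ = T.π.app i ≫ _
      exact (Category.assoc _ _ _).trans ((congrArg (m ≫ ·) (toBC_fst h f _ _).symm).trans
        ((Category.assoc _ _ _).symm.trans (congrArg (· ≫ _) (hm i))))

/-- The system of the base changes. -/
abbrev bcSys : EtLimLib.Sys N.ι where
  Xs := N.D ⋙ bcScheme h f
  aff i j a := by
    haveI := N.aff i
    haveI := N.aff j
    haveI : IsAffineHom (N.D.map a).1.left := inferInstance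
    exact MorphismProperty.of_isPullback (P := @IsAffineHom) (EtCoh.isPullback_bc_map f (N.D.map a).1).flip
      ‹IsAffineHom (N.D.map a).1.left›
  qc i := by
    haveI := N.aff i
    haveI : CompactSpace ↥((𝟭 Scheme).obj (N.D.obj i).fst.left) :=
      inferInstanceAs (CompactSpace ↥(N.D.obj i).fst.left)
    haveI : QuasiCompact (pullback.fst (N.D.obj i).fst.hom f) :=
      MorphismProperty.pullback_fst (P := @QuasiCompact) _ _ ‹QuasiCompact f›
    exact QuasiCompact.compactSpace_of_compactSpace (pullback.fst (N.D.obj i).fst.hom f)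
  qs i := by
    haveI := N.aff i
    haveI : QuasiSeparatedSpace ↥((𝟭 Scheme).obj (N.D.obj i).fst.left) :=
      inferInstanceAs (QuasiSeparatedSpace ↥(N.D.obj i).fst.left)
    haveI : QuasiSeparated (pullback.fst (N.D.obj i).fst.hom f) :=
      MorphismProperty.pullback_fst (P := @QuasiSeparated) _ _ ‹QuasiSeparated f›
    exact quasiSeparatedSpace_of_quasiSeparated (pullback.fst (N.D.obj i).fst.hom f)
  c := bcCone h f N
  hc := isLimitBcCone h f N

/-- The maps of the stages to `X`. -/
def bcOver : EtLimLib.OverSys.Over (bcSys h f N) X where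
  q i := ((EtCoh.bc f).obj (nbU h N i)).hom
  g := proj h f
  hq i j a := MorphismProperty.Over.w ((EtCoh.bc f).map (N.D.map (homOfLE a).op).1)
  hg i := toBC_w h f _ _

variable (F : EtCoh.Ab X)

/-- The system of inverse images on the stages. -/
abbrev stageSh := EtLimLib.OverSys.overSys (bcOver h f N) F

/-- Its colimit on the strict localization. -/
abbrev stageCocone := EtLimLib.OverSys.overCocone (bcOver h f N) F

/-- A section over a stage, as a global section of the system. -/
def stageSec (i : N.ι) (x : EtCoh.sect ((EtCoh.push f).obj F) (nbU h N i)) :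
    EtCoh.sect ((stageSh h f N F).F i) (EtCoh.top ((bcSys h f N).X i)) :=
  restrSec (g := (bcOver h f N).q i) (𝟙 _) (Category.id_comp _) F x

theorem bijective_stageSec (i : N.ι) : Function.Bijective (stageSec h f N F i) :=
  bijective_restrSec_self _ F

theorem app_stageSec (i : N.ι) (x : EtCoh.sect ((EtCoh.push f).obj F) (nbU h N i)) :
    ((EtCoh.pull (proj h f)).obj F).obj.map (EtCore.bcTopIso ((bcSys h f N).u i)).inv.op
        ((stageCocone h f N F).app (stageSec h f N F i x)) =
      (compare h f).app F ((Scheme.pointSmallEtale (pt h)).toPresheafFiber (nbU h N i) (nbL h N i)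
        ((EtCoh.push f).obj F).obj x) := by
  refine Eq.trans ?_ (congr($(toPresheafFiber_compare h f (nbU h N i) (nbL h N i) F) x)).symm
  refine (restrSec_transfer ((bcOver h f N).hg i) (W := (EtCoh.bc f).obj (nbU h N i)) (𝟙 _) (Category.id_comp _) F
    ((stageCocone h f N F).ψ i) ?_ _ x).trans ?_
  · exact ((EtCoh.pullPushAdj _).homEquiv_unit _ _ _).symm.trans (Equiv.apply_symm_apply _ _)
  · congr 2

theorem res_stageSec {i j : N.ι} (a : i ≤ j) (x : EtCoh.sect ((EtCoh.push f).obj F) (nbU h N i)) :
    ((stageSh h f N F).F j).obj.map (EtCore.bcTopIso ((bcSys h f N).t a)).inv.op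
        ((stageSh h f N F).res a (stageSec h f N F i x)) =
      stageSec h f N F j (((EtCoh.push f).obj F).obj.map (N.D.map (homOfLE a).op).1.op x) := by
  refine (restrSec_transfer ((bcOver h f N).hq a) (W := (EtCoh.bc f).obj (nbU h N i)) (𝟙 _) (Category.id_comp _) F
    ((stageSh h f N F).φ a) ?_ _ x).trans ?_
  · exact ((EtCoh.pullPushAdj _).homEquiv_unit _ _ _).symm.trans (Equiv.apply_symm_apply _ _)
  · refine (congr($(restrSec_map ((EtCoh.bc f).map (N.D.map (homOfLE a).op).1) (𝟙 _) (Category.id_comp _)
      _ _ ?_ F) x)).symm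
    exact (Category.id_comp _).trans (Category.comp_id _).symm

include N in
theorem bijective_compare : Function.Bijective ((compare h f).app F) := by
  have hκ := EtLimLib.OverSys.isColim_overCocone (bcOver h f N) F
  have htop : ∀ i, CompactSpace (EtCoh.top ((bcSys h f N).X i)).left ∧
      QuasiSeparatedSpace (EtCoh.top ((bcSys h f N).X i)).left := fun i =>
    ⟨(bcSys h f N).qc (op i), (bcSys h f N).qs (op i)⟩
  constructor
  · refine (injective_iff_map_eq_zero ((compare h f).app F).hom).2 fun z hz => ?_
    obtain ⟨U, l, y, rfl⟩ := (Scheme.pointSmallEtale (pt h)).toPresheafFiber_jointly_surjective z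
    obtain ⟨⟨i⟩, ⟨g⟩⟩ := N.cofinal (Functor.elementsMk _ U l)
    change (compare h f).app F ((Scheme.pointSmallEtale (pt h)).toPresheafFiber U l
      ((EtCoh.push f).obj F).obj y) = 0 at hz
    show (Scheme.pointSmallEtale (pt h)).toPresheafFiber U l ((EtCoh.push f).obj F).obj y = 0
    have hy : (Scheme.pointSmallEtale (pt h)).toPresheafFiber U l ((EtCoh.push f).obj F).obj y =
        (Scheme.pointSmallEtale (pt h)).toPresheafFiber (nbU h N i) (nbL h N i) ((EtCoh.push f).obj F).obj
          (((EtCoh.push f).obj F).obj.map g.1.op y) := by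
      refine Eq.trans ?_ ((Scheme.pointSmallEtale (pt h)).toPresheafFiber_w_apply g.1 _ _ y).symm
      exact congrArg (fun m => (Scheme.pointSmallEtale (pt h)).toPresheafFiber U m ((EtCoh.push f).obj F).obj y) g.2.symm
    rw [hy] at hz ⊢
    generalize ((EtCoh.push f).obj F).obj.map g.1.op y = x at hz ⊢
    have h0 := (app_stageSec h f N F i x).trans hz
    have h0' : (stageCocone h f N F).app (stageSec h f N F i x) = 0 := by
      apply (ConcreteCategory.bijective_of_isIso
        (((EtCoh.pull (proj h f)).obj F).obj.map (EtCore.bcTopIso ((bcSys h f N).u i)).inv.op)).1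
      exact h0.trans (map_zero _).symm
    haveI := (htop i).1
    haveI := (htop i).2
    obtain ⟨j, a, ha⟩ := EtLimLib.exists_res_eq_zero hκ _ _ h0'
    have h1 := res_stageSec h f N F a x
    rw [ha, map_zero] at h1
    have h2 : ((EtCoh.push f).obj F).obj.map (N.D.map (homOfLE a).op).1.op x = 0 :=
      (bijective_stageSec h f N F j).1 (h1.symm.trans (map_zero _).symm)
    have h3 := (Scheme.pointSmallEtale (pt h)).toPresheafFiber_w_apply (N.D.map (homOfLE a).op).1 (nbL h N j)
      ((EtCoh.push f).obj F).obj x
    rw [h2, map_zero] at h3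
    refine Eq.trans ?_ h3.symm
    exact congrArg (fun m => (Scheme.pointSmallEtale (pt h)).toPresheafFiber (nbU h N i) m ((EtCoh.push f).obj F).obj x)
      (N.D.map (homOfLE a).op).2.symm
  · intro z
    let i : N.ι := Classical.arbitrary N.ι
    haveI := (htop i).1
    haveI := (htop i).2
    let T := EtCoh.top ((bcSys h f N).X i)
    obtain ⟨j, a, s, hs⟩ := EtLimLib.exists_app_eq hκ T
      (((EtCoh.pull (proj h f)).obj F).obj.map (EtCore.bcTopIso ((bcSys h f N).u i)).hom.op z)
    obtain ⟨x, hx⟩ := (bijective_stageSec h f N F j).2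
      (((stageSh h f N F).F j).obj.map (EtCore.bcTopIso ((bcSys h f N).t a)).inv.op s)
    refine ⟨(Scheme.pointSmallEtale (pt h)).toPresheafFiber (nbU h N j) (nbL h N j) ((EtCoh.push f).obj F).obj x, ?_⟩
    let P : EtCoh.Ab (bcSys h f N).c.pt := (EtCoh.pull (bcOver h f N).g).obj F
    have e0 := app_stageSec h f N F j x
    refine e0.symm.trans ?_
    rw [hx, (stageCocone h f N F).app_map, hs]
    show P.obj.map (EtCore.bcTopIso ((bcSys h f N).u j)).inv.op (P.obj.map _ (P.obj.map _
      (P.obj.map (EtCore.bcTopIso ((bcSys h f N).u i)).hom.op z))) = z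
    rw [← Functor.map_comp_apply, ← Functor.map_comp_apply, ← Functor.map_comp_apply, ← op_comp, ← op_comp,
      ← op_comp]
    refine (congrArg (fun q : EtCoh.top (pullback f h) ⟶ EtCoh.top (pullback f h) =>
      ((EtCoh.pull (proj h f)).obj F).obj.map q.op z) ((EtCore.topIsTerminal (pullback f h)).hom_ext _ (𝟙 _))).trans ?_
    rw [op_id, CategoryTheory.Functor.map_id]
    rfl

include N in
/-- Inverse images of injective sheaves on the strict localization are acyclic. -/
theorem subsingleton_H_of_injective [Injective F] (n : ℕ) :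
    Subsingleton (EtCoh.H (pullback f h) ((EtCoh.pull (proj h f)).obj F) (n + 1)) :=
  EtLimLib.subsingleton_H_of_injective (EtLimLib.OverSys.isColim_overCocone (bcOver h f N) F)
    (fun i => S19626.injective_pull ((EtCoh.bc f).obj (nbU h N i)) F) n

end Groth.Agent.StrictLocLib
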