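import Groth.Agent.EtPtsLib.IntegralBCIso
import Groth.Agent.EtPtsLib.GermEq
import Groth.Agent.HensH0.Agree
import Groth.Agent.FlatLocus.ImageClosure
import Mathlib.AlgebraicGeometry.Morphisms.UniversallyOpen
import Mathlib.CategoryTheory.Sites.LocallyInjective
import Mathlib.Algebra.Category.Grp.Adjunctions

/-!
# Base change of sheaves of sets from base change of abelian sheaves

For `f` universally closed, the base change map of a sheaf of sets is an isomorphism as soon as that of
its free abelian sheaf is.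
-/

set_option autoImplicit false
set_option linter.unusedSectionVars false
set_option linter.unusedVariables false
set_option linter.style.haveILetI false
set_option backward.isDefEq.respectTransparency false
set_option backward.isDefEq.respectTransparency.types false
set_option maxHeartbeats 1000000

universe u

open CategoryTheory CategoryTheory.Limits AlgebraicGeometry Opposite
open Groth.Agent.EtPtsLib

noncomputable section

namespace Groth.Agent.StrictLocLib

/-- A set of points over the base that contains whole fibres over the image of an étale neighbourhood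
spreads to an open of the base. -/
def Spreads {X Y Y' : Scheme.{u}} (f : X ⟶ Y) (g : Y' ⟶ Y) : Prop :=
  ∀ (V : Y.Etale) (L : Set ((EtCoh.bc f).obj V).left), IsOpen L →
    ∀ (S : Y'.Etale) (k : S ⟶ (EtCoh.bc g).obj V),
      (∀ (y : ((EtCoh.bc f).obj V).left) (σ : S.left), (k.left ≫ bcFst g V) σ = bcFst f V y → y ∈ L) →
      ∀ σ₀ : S.left, ∃ O : V.left.Opens, (k.left ≫ bcFst g V) σ₀ ∈ O ∧ ∀ y, bcFst f V y ∈ O → y ∈ L

theorem spreads_of_universallyClosed {X Y Y' : Scheme.{u}} (f : X ⟶ Y) (g : Y' ⟶ Y) (hf : UniversallyClosed f) :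
    Spreads f g := by
  intro V L hL S k hover σ₀
  haveI : UniversallyClosed (pullback.fst V.hom f) := MorphismProperty.pullback_fst _ _ hf
  refine ⟨⟨((pullback.fst V.hom f) '' Lᶜ)ᶜ,
    ((pullback.fst V.hom f).isClosedMap _ hL.isClosed_compl).isOpen_compl⟩, ?_, fun y hy => ?_⟩
  · rintro ⟨y, hy, hyv⟩
    exact hy (hover y σ₀ hyv.symm)
  · by_contra hn
    exact hy ⟨y, hn, rfl⟩

theorem spreads_of_universallyOpen {X Y Y' : Scheme.{u}} (f : X ⟶ Y) (g : Y' ⟶ Y) (hg : UniversallyOpen g) :
    Spreads f g := by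
  intro V L hL S k hover σ₀
  haveI : UniversallyOpen (pullback.fst V.hom g) := MorphismProperty.pullback_fst _ _ hg
  haveI := etale_left k
  refine ⟨⟨Set.range (k.left ≫ bcFst g V), ?_⟩, ⟨σ₀, rfl⟩, fun y ⟨σ, hσ⟩ => hover y σ hσ⟩
  exact (k.left ≫ pullback.fst V.hom g).isOpenMap.isOpen_range

theorem spreads_of_generalizing {X Y Y' : Scheme.{u}} (f : X ⟶ Y) (g : Y' ⟶ Y) [QuasiCompact f]
    (hg : ∀ V : Y.Etale, GeneralizingMap (pullback.fst V.hom g)) : Spreads f g := by
  intro V L hL S k hover σ₀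
  haveI : QuasiCompact (pullback.fst V.hom f) := MorphismProperty.pullback_fst _ _ ‹QuasiCompact f›
  haveI := etale_left k
  refine ⟨⟨(closure ((pullback.fst V.hom f) '' Lᶜ))ᶜ, isClosed_closure.isOpen_compl⟩, fun hmem => ?_, fun y hy => ?_⟩
  · obtain ⟨y, hy, hyv⟩ := FlatLocus.exists_specializes_of_mem_closure_image (pullback.fst V.hom f) hL.isClosed_compl hmem
    rw [Scheme.Hom.comp_apply] at hyv
    obtain ⟨z, hz, hzy⟩ := hg V hyv
    obtain ⟨σ, -, hσz⟩ := (Flat.generalizingMap k.left) hz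
    exact hy (hover y σ ((Scheme.Hom.comp_apply _ _ _).trans
      ((congrArg (bcFst g V) hσz).trans hzy)))
  · by_contra hn
    exact hy (subset_closure ⟨y, hn, rfl⟩)

section Fib

variable {X : Scheme.{u}} {Ω : Type u} [Field Ω] [IsSepClosed Ω] (ξ : Spec (CommRingCat.of Ω) ⟶ X)
  {P : X.Etaleᵒᵖ ⥤ Type (u + 1)} {Q : X.Etaleᵒᵖ ⥤ AddCommGrpCat.{u + 1}} (κ : P ⟶ Q ⋙ forget AddCommGrpCat.{u + 1})

theorem kap_map {U V : X.Etale} (g : V ⟶ U) (x : P.obj (op U)) :
    κ.app (op V) (P.map g.op x) = Q.map g.op (κ.app (op U) x) :=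
  NatTrans.naturality_apply κ g.op x

/-- The map of stalks given by a map to underlying sets. -/
def fibU : (Scheme.pointSmallEtale ξ).presheafFiber.obj P ⟶ ToType ((Scheme.pointSmallEtale ξ).presheafFiber.obj Q) :=
  (Scheme.pointSmallEtale ξ).presheafFiberDesc
    (fun U l => TypeCat.ofHom fun x => (Scheme.pointSmallEtale ξ).toPresheafFiber U l Q (κ.app (op U) x))
    (fun _ _ g l => ConcreteCategory.hom_ext _ _ fun x =>
      (congrArg ((Scheme.pointSmallEtale ξ).toPresheafFiber _ l Q) (kap_map κ g x)).trans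
        ((Scheme.pointSmallEtale ξ).toPresheafFiber_w_apply g l Q _))

theorem fibU_germ (U : X.Etale) (l : (Scheme.pointSmallEtale ξ).fiber.obj U) (x : P.obj (op U)) :
    fibU ξ κ ((Scheme.pointSmallEtale ξ).toPresheafFiber U l P x) =
      (Scheme.pointSmallEtale ξ).toPresheafFiber U l Q (κ.app (op U) x) :=
  (ConcreteCategory.comp_apply _ _ _).symm.trans
    (ConcreteCategory.congr_hom
      ((Scheme.pointSmallEtale ξ).toPresheafFiber_presheafFiberDesc
        (fun U l => TypeCat.ofHom fun x => (Scheme.pointSmallEtale ξ).toPresheafFiber U l Q (κ.app (op U) x))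
        (fun _ _ g l => ConcreteCategory.hom_ext _ _ fun x =>
          (congrArg ((Scheme.pointSmallEtale ξ).toPresheafFiber _ l Q) (kap_map κ g x)).trans
            ((Scheme.pointSmallEtale ξ).toPresheafFiber_w_apply g l Q _)) U l) x)

theorem fibU_injective (hκ : ∀ U, Function.Injective (κ.app (op U))) : Function.Injective (fibU ξ κ) := by
  intro a b hab
  obtain ⟨U, l, x, y, rfl, rfl⟩ := (Scheme.pointSmallEtale ξ).toPresheafFiber_jointly_surjective₂ (P := P) a b
  rw [fibU_germ, fibU_germ] at hab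
  obtain ⟨V, g, m, hm, e⟩ := ((Scheme.pointSmallEtale ξ).toPresheafFiber_eq_iff' U l _ _).1 hab
  exact ((Scheme.pointSmallEtale ξ).toPresheafFiber_eq_iff' (P := P) U l x y).2
    ⟨V, g, m, hm, hκ V ((kap_map κ g x).trans (e.trans (kap_map κ g y).symm))⟩

end Fib

section Free

variable {X : Scheme.{u}} (F : EtDesc.Sh X)

/-- The free abelian sheaf. -/
def freeAbOf : EtCoh.Ab X :=
  (presheafToSheaf X.smallEtaleTopology AddCommGrpCat.{u + 1}).obj (F.obj ⋙ AddCommGrpCat.free.{u + 1})

/-- The free abelian presheaf. -/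
abbrev freePre : X.Etaleᵒᵖ ⥤ AddCommGrpCat.{u + 1} := F.obj ⋙ AddCommGrpCat.free.{u + 1}

/-- The basis element of a section. -/
def freeBasis (U : X.Etale) (x : F.obj.obj (op U)) : ToType ((freePre F).obj (op U)) := FreeAbelianGroup.of x

theorem freeBasis_map {U V : X.Etale} (g : V ⟶ U) (x : F.obj.obj (op U)) :
    (freePre F).map g.op (freeBasis F U x) = freeBasis F V (F.obj.map g.op x) :=
  FreeAbelianGroup.map_of_apply (f := fun z => F.obj.map g.op z) x

/-- The basis presheaf map. -/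
def basisHom : F.obj ⟶ freePre F ⋙ forget AddCommGrpCat.{u + 1} where
  app U := TypeCat.ofHom fun x => freeBasis F U.unop x
  naturality U V g := ConcreteCategory.hom_ext _ _ fun x => (freeBasis_map F g.unop x).symm

/-- The map to the sheafification. -/
def freeToSh : freePre F ⟶ (freeAbOf F).obj := CategoryTheory.toSheafify X.smallEtaleTopology (freePre F)

instance isLocallyInjective_freeToSh : Presheaf.IsLocallyInjective X.smallEtaleTopology (freeToSh F) :=
  inferInstanceAs (Presheaf.IsLocallyInjective X.smallEtaleTopology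
    (CategoryTheory.toSheafify X.smallEtaleTopology (freePre F)))

/-- The basis map. -/
def freeIncl : F.obj ⟶ (freeAbOf F).obj ⋙ forget AddCommGrpCat.{u + 1} :=
  basisHom F ≫ Functor.whiskerRight (freeToSh F) (forget AddCommGrpCat.{u + 1})

theorem injective_of_locallyInjective (T : freePre F ⟶ (freeAbOf F).obj)
    [Presheaf.IsLocallyInjective X.smallEtaleTopology T] (U : X.Etale) (x y : F.obj.obj (op U))
    (e : T.app (op U) (freeBasis F U x) = T.app (op U) (freeBasis F U y)) : x = y := by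
  have hS := Presheaf.equalizerSieve_mem X.smallEtaleTopology T (freeBasis F U x) (freeBasis F U y) e
  have hsep := ((isSheaf_iff_isSheaf_of_type _ _).1 F.property).isSeparated
  refine (hsep _ hS).ext fun V g hg => ?_
  exact FreeAbelianGroup.of_injective ((freeBasis_map F g x).symm.trans (Eq.trans hg (freeBasis_map F g y)))

theorem freeIncl_injective (U : X.Etale) : Function.Injective ((freeIncl F).app (op U)) := fun x y e =>
  injective_of_locallyInjective F (freeToSh F) U x y e

end Free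

section Image

variable {X : Scheme.{u}} {F : EtDesc.Sh X} {G : EtCoh.Ab X} (κ : F.obj ⟶ G.obj ⋙ forget AddCommGrpCat.{u + 1})
  (hκ : ∀ U, Function.Injective (κ.app (op U)))

/-- Where a section comes from the subsheaf. -/
def imageLocus {U : X.Etale} (s : EtCoh.sect G U) : Set U.left :=
  ⋃ (W : X.Etale) (g : W ⟶ U) (_ : ∃ t, κ.app (op W) t = G.obj.map g.op s), Set.range g.left

theorem isOpen_imageLocus {U : X.Etale} (s : EtCoh.sect G U) : IsOpen (imageLocus κ s) :=
  isOpen_iUnion fun _ => isOpen_iUnion fun g => isOpen_iUnion fun _ => by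
    haveI := etale_left g
    exact g.left.isOpenMap.isOpen_range

include hκ in
theorem exists_preimage_of_imageLocus {U : X.Etale} (s : EtCoh.sect G U) (h : ∀ y, y ∈ imageLocus κ s) :
    ∃ t, κ.app (op U) t = s := by
  let S : Sieve U :=
    { arrows := fun V g => ∃ t, κ.app (op V) t = G.obj.map g.op s
      downward_closed := fun {V W g} ⟨t, ht⟩ k => ⟨F.obj.map k.op t, (kap_map κ k t).trans
        ((congrArg (G.obj.map k.op) ht).trans ((Functor.map_comp_apply G.obj _ _ _).symm.trans (by rw [← op_comp])))⟩ }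
  have hS : S ∈ X.smallEtaleTopology U := detects X S fun x l => by
    obtain ⟨W, hW⟩ := Set.mem_iUnion.1 (h (liftHom _ l default))
    obtain ⟨g, hg⟩ := Set.mem_iUnion.1 hW
    obtain ⟨ht, v, hv⟩ := Set.mem_iUnion.1 hg
    obtain ⟨z, hz⟩ := exists_fiber_map_eq _ g l v hv
    exact ⟨W, g, ht, z, hz⟩
  have hF := (isSheaf_iff_isSheaf_of_type _ _).1 F.property _ hS
  let x : Presieve.FamilyOfElements F.obj S.arrows := fun V g hg => hg.choose
  have hx : ∀ {V : X.Etale} (g : V ⟶ U) (hg : S g), κ.app (op V) (x g hg) = G.obj.map g.op s :=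
    fun g hg => hg.choose_spec
  have hc : x.Compatible := by
    intro Y₁ Y₂ Z a₁ a₂ f₁ f₂ h₁ h₂ e
    refine hκ Z ((kap_map κ a₁ _).trans (Eq.trans ?_ (kap_map κ a₂ _).symm))
    rw [hx f₁ h₁, hx f₂ h₂, ← Functor.map_comp_apply, ← Functor.map_comp_apply, ← op_comp, ← op_comp, e]
  refine ⟨hF.amalgamate x hc, ?_⟩
  have hsep := ((isSheaf_iff_isSheaf_of_type _ _).1
    ((sheafCompose X.smallEtaleTopology (forget AddCommGrpCat.{u + 1})).obj G).property).isSeparated
  refine (hsep _ hS).ext fun V g hg => ?_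
  show G.obj.map g.op _ = G.obj.map g.op s
  rw [← kap_map, hF.valid_glue hc g hg, hx g hg]

end Image

section Germs

variable {X Y X' Y' : Scheme.{u}} (f : X ⟶ Y) (g : Y' ⟶ Y) (f' : X' ⟶ Y') (g' : X' ⟶ X)
  (h : IsPullback g' f' f g) {A : Type (u + 2)} [Category.{u + 1} A] [HasColimitsOfSize.{u, u} A] [HasProducts.{u} A]
  [((EtCoh.bc g).sheafPushforwardContinuous A Y.smallEtaleTopology Y'.smallEtaleTopology).IsRightAdjoint]
  [((EtCoh.bc g').sheafPushforwardContinuous A X.smallEtaleTopology X'.smallEtaleTopology).IsRightAdjoint]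
  {FC : A → A → Type*} {CC : A → Type (u + 1)}
  [∀ (a b : A), FunLike (FC a b) (CC a) (CC b)] [ConcreteCategory.{u + 1} A FC]

theorem unitStalk_germ {Ω : Type u} [Field Ω] [IsSepClosed Ω] (ζ : Spec (CommRingCat.of Ω) ⟶ X')
    (F : Sheaf X.smallEtaleTopology A) (U : X.Etale) (l : (Scheme.pointSmallEtale (ζ ≫ g')).fiber.obj U)
    (x : ToType (F.obj.obj (op U))) :
    unitStalk g' ζ F ((Scheme.pointSmallEtale (ζ ≫ g')).toPresheafFiber U l F.obj x) =
      (Scheme.pointSmallEtale ζ).toPresheafFiber ((EtCoh.bc g').obj U) (liftBc g' ζ U l)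
        (((EtCoh.bc g').sheafPullback A X.smallEtaleTopology X'.smallEtaleTopology).obj F).obj
        ((((EtCoh.bc g').sheafAdjunctionContinuous A X.smallEtaleTopology X'.smallEtaleTopology).unit.app F).hom.app
          (op U) x) :=
  (ConcreteCategory.comp_apply _ _ _).symm.trans
    ((congrArg (fun m => (ConcreteCategory.hom (C := A) m) x) (toPresheafFiber_unitStalk g' ζ F U l)).trans
      (ConcreteCategory.comp_apply _ _ _))

include h in
theorem bcStalk_germ {Ω : Type u} [Field Ω] [IsAlgClosed Ω] (η : Spec (CommRingCat.of Ω) ⟶ Y')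
    (F : Sheaf X.smallEtaleTopology A)
    (α : ((EtCoh.bc g).sheafPullback A Y.smallEtaleTopology Y'.smallEtaleTopology).obj
        (((EtCoh.bc f).sheafPushforwardContinuous A Y.smallEtaleTopology X.smallEtaleTopology).obj F) ⟶
      ((EtCoh.bc f').sheafPushforwardContinuous A Y'.smallEtaleTopology X'.smallEtaleTopology).obj
        (((EtCoh.bc g').sheafPullback A X.smallEtaleTopology X'.smallEtaleTopology).obj F))
    (hα : IsBC f g f' g' h F α) (V : Y.Etale) (l : (Scheme.pointSmallEtale (η ≫ g)).fiber.obj V)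
    (x : ToType (F.obj.obj (op ((EtCoh.bc f).obj V)))) :
    bcStalk f g f' g' η F α ((Scheme.pointSmallEtale (η ≫ g)).toPresheafFiber V l
        (((EtCoh.bc f).sheafPushforwardContinuous A Y.smallEtaleTopology X.smallEtaleTopology).obj F).obj x) =
      (Scheme.pointSmallEtale η).toPresheafFiber ((EtCoh.bc g).obj V) (liftBc g η V l)
        (((EtCoh.bc f').sheafPushforwardContinuous A Y'.smallEtaleTopology X'.smallEtaleTopology).obj
          (((EtCoh.bc g').sheafPullback A X.smallEtaleTopology X'.smallEtaleTopology).obj F)).obj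
        ((((EtCoh.bc g').sheafPullback A X.smallEtaleTopology X'.smallEtaleTopology).obj F).obj.map
          (kappa f g f' g' h V).op
          ((((EtCoh.bc g').sheafAdjunctionContinuous A X.smallEtaleTopology X'.smallEtaleTopology).unit.app F).hom.app
            (op ((EtCoh.bc f).obj V)) x)) := by
  have hb := hα V
  rw [Adjunction.homEquiv_unit] at hb
  refine (ConcreteCategory.comp_apply _ _ _).trans ?_
  refine (congrArg ((Scheme.pointSmallEtale η).presheafFiber.map α.hom)
    (unitStalk_germ (g' := g) η _ V l x)).trans ?_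
  refine ((Scheme.pointSmallEtale η).toPresheafFiber_naturality_apply _ _ _ _).trans ?_
  refine congrArg ((Scheme.pointSmallEtale η).toPresheafFiber ((EtCoh.bc g).obj V) (liftBc g η V l)
    (((EtCoh.bc f').sheafPushforwardContinuous A Y'.smallEtaleTopology X'.smallEtaleTopology).obj
      (((EtCoh.bc g').sheafPullback A X.smallEtaleTopology X'.smallEtaleTopology).obj F)).obj) ?_
  exact ((ConcreteCategory.comp_apply _ _ _).symm.trans
    (congrArg (fun m => (ConcreteCategory.hom (C := A) m) x) hb)).trans (ConcreteCategory.comp_apply _ _ _)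

end Germs

variable {X Y X' Y' : Scheme.{u}} (f : X ⟶ Y) (g : Y' ⟶ Y) (f' : X' ⟶ Y') (g' : X' ⟶ X)
  (h : IsPullback g' f' f g) (F : EtDesc.Sh X) {G : EtCoh.Ab X}
  (κ : F.obj ⟶ G.obj ⋙ forget AddCommGrpCat.{u + 1})

/-- The map to the inverse image of the abelian sheaf. -/
def pullIncl : (EtDesc.pullSh g').obj F ⟶
    (sheafCompose X'.smallEtaleTopology (forget AddCommGrpCat.{u + 1})).obj ((EtCoh.pull g').obj G) :=
  ((EtDesc.adjSh g').homEquiv F _).symm (ObjectProperty.homMk
    (X := F) (Y := (EtDesc.pushSh g').obj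
      ((sheafCompose X'.smallEtaleTopology (forget AddCommGrpCat.{u + 1})).obj ((EtCoh.pull g').obj G)))
    (κ ≫ (Functor.whiskerRight ((EtCoh.pullPushAdj g').unit.app G).hom (forget AddCommGrpCat.{u + 1}) :
      G.obj ⋙ forget AddCommGrpCat.{u + 1} ⟶
        (EtCoh.bc g').op ⋙ ((EtCoh.pull g').obj G).obj ⋙ forget AddCommGrpCat.{u + 1})))

theorem pullIncl_unit (U : X.Etale) (x : F.obj.obj (op U)) :
    (pullIncl g' F κ).hom.app (op ((EtCoh.bc g').obj U)) (((EtDesc.adjSh g').unit.app F).hom.app (op U) x) =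
      ((EtCoh.pullPushAdj g').unit.app G).hom.app (op U) (κ.app (op U) x) := by
  have e : (EtDesc.adjSh g').unit.app F ≫ (EtDesc.pushSh g').map (pullIncl g' F κ) =
      _ :=
    ((EtDesc.adjSh g').homEquiv_unit _ _ _).symm.trans (Equiv.apply_symm_apply _ _)
  exact congr(($e).hom.app (op U) x)

/-- The presheaf map underlying `pullIncl`. -/
abbrev pullInclP : ((EtDesc.pullSh g').obj F).obj ⟶ ((EtCoh.pull g').obj G).obj ⋙ forget AddCommGrpCat.{u + 1} :=
  (pullIncl g' F κ).hom

/-- Every germ of the inverse image is the germ of the image of a germ; the map follows. -/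
theorem fibU_pullIncl_unitStalk {Ω : Type u} [Field Ω] [IsSepClosed Ω] (ζ : Spec (CommRingCat.of Ω) ⟶ X')
    (a : ToType ((Scheme.pointSmallEtale (ζ ≫ g')).presheafFiber.obj F.obj)) :
    fibU ζ (pullInclP g' F κ) (unitStalk g' ζ F a) = unitStalk g' ζ G (fibU (ζ ≫ g') κ a) := by
  obtain ⟨U, l, x, rfl⟩ := (Scheme.pointSmallEtale (ζ ≫ g')).toPresheafFiber_jointly_surjective (P := F.obj) a
  rw [fibU_germ]
  refine (congrArg (fibU ζ (pullInclP g' F κ)) (unitStalk_germ g' ζ F U l x)).trans ?_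
  refine Eq.trans ?_ (unitStalk_germ g' ζ G U l (κ.app (op U) x)).symm
  refine (fibU_germ ζ (pullInclP g' F κ) _ _ _).trans ?_
  exact congrArg ((Scheme.pointSmallEtale ζ).toPresheafFiber _ (liftBc g' ζ U l) ((EtCoh.pull g').obj G).obj)
    (pullIncl_unit g' F κ U x)

variable (hκ : ∀ U, Function.Injective (κ.app (op U)))

include hκ in
theorem pullIncl_injective (B : X'.Etale) : Function.Injective ((pullInclP g' F κ).app (op B)) := by
  intro t t' e
  have hR : Presheaf.equalizerSieve (F := ((EtDesc.pullSh g').obj F).obj) (X := op B) t t' ∈ X'.smallEtaleTopology B :=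
    detects X' _ fun x l => by
      have hg : (Scheme.pointSmallEtale (geomPt x)).toPresheafFiber B l ((EtDesc.pullSh g').obj F).obj t =
          (Scheme.pointSmallEtale (geomPt x)).toPresheafFiber B l ((EtDesc.pullSh g').obj F).obj t' := by
        obtain ⟨a, ha⟩ := (bijective_unitStalk g' (geomPt x) F).2
          ((Scheme.pointSmallEtale (geomPt x)).toPresheafFiber B l ((EtDesc.pullSh g').obj F).obj t)
        obtain ⟨a', ha'⟩ := (bijective_unitStalk g' (geomPt x) F).2
          ((Scheme.pointSmallEtale (geomPt x)).toPresheafFiber B l ((EtDesc.pullSh g').obj F).obj t')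
        refine ha.symm.trans ((congrArg (unitStalk g' (geomPt x) F)
          (fibU_injective (geomPt x ≫ g') κ hκ ((bijective_unitStalk g' (geomPt x) G).1 ?_))).trans ha')
        refine (fibU_pullIncl_unitStalk g' F κ (geomPt x) a).symm.trans
          (Eq.trans ?_ (fibU_pullIncl_unitStalk g' F κ (geomPt x) a'))
        refine (congrArg (fibU (geomPt x) (pullInclP g' F κ)) ha).trans
          (Eq.trans ?_ (congrArg (fibU (geomPt x) (pullInclP g' F κ)) ha').symm)
        exact (fibU_germ (geomPt x) (pullInclP g' F κ) B l t).trans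
          ((congrArg ((Scheme.pointSmallEtale (geomPt x)).toPresheafFiber B l ((EtCoh.pull g').obj G).obj) e).trans
            (fibU_germ (geomPt x) (pullInclP g' F κ) B l t').symm)
      obtain ⟨V, k, y, hy, hk⟩ := ((Scheme.pointSmallEtale _).toPresheafFiber_eq_iff' (P := ((EtDesc.pullSh g').obj F).obj) B l t t').1 hg
      exact ⟨V, k, hk, y, hy⟩
  have hsep := ((isSheaf_iff_isSheaf_of_type _ _).1 ((EtDesc.pullSh g').obj F).property).isSeparated
  exact (hsep _ hR).ext fun V k hk => hk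

include h in
theorem isPullback_bc_bc (V : Y.Etale) (S : Y'.Etale) (k : S ⟶ (EtCoh.bc g).obj V) :
    IsPullback (((EtCoh.bc f').map k ≫ kappa f g f' g' h V).left ≫ bcFst g' ((EtCoh.bc f).obj V))
      (bcFst f' S) (bcFst f V) (k.left ≫ bcFst g V) := by
  have hk : (k.left ≫ bcFst g V) ≫ V.hom = S.hom ≫ g := by
    rw [Category.assoc, bcFst, pullback.condition, ← Category.assoc]
    exact congrArg (· ≫ g) (MorphismProperty.Over.w k)
  have e1 : (((EtCoh.bc f').map k ≫ kappa f g f' g' h V).left ≫ bcFst g' ((EtCoh.bc f).obj V)) ≫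
      pullback.snd V.hom f = pullback.snd S.hom f' ≫ g' := by
    have hc : bcFst g' ((EtCoh.bc f).obj V) ≫ ((EtCoh.bc f).obj V).hom =
        ((EtCoh.bc g').obj ((EtCoh.bc f).obj V)).hom ≫ g' := pullback.condition
    refine (Category.assoc _ _ _).trans ((congrArg (_ ≫ ·) hc).trans ((Category.assoc _ _ _).symm.trans ?_))
    exact congrArg (· ≫ g') (MorphismProperty.Over.w ((EtCoh.bc f').map k ≫ kappa f g f' g' h V))
  have e2 : (((EtCoh.bc f').map k ≫ kappa f g f' g' h V).left ≫ bcFst g' ((EtCoh.bc f).obj V)) ≫ bcFst f V =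
      bcFst f' S ≫ k.left ≫ bcFst g V := by
    refine (Category.assoc _ _ _).trans ((Category.assoc _ _ _).trans ?_)
    refine (congrArg (((EtCoh.bc f').map k).left ≫ ·) (kappa_fst f g f' g' h V)).trans ?_
    rw [← Category.assoc, bcFst_map, Category.assoc]
  refine IsPullback.of_right ?_ e2 (IsPullback.of_hasPullback V.hom f).flip
  rw [e1, hk]
  exact (IsPullback.of_hasPullback S.hom f').flip.paste_horiz h

variable {Ω : Type u} [Field Ω] [IsAlgClosed Ω] (η : Spec (CommRingCat.of Ω) ⟶ Y')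

include h in
theorem bcStalk_germ_sh (V : Y.Etale) (l : (Scheme.pointSmallEtale (η ≫ g)).fiber.obj V)
    (x : F.obj.obj (op ((EtCoh.bc f).obj V))) :
    bcStalk f g f' g' η F (EtBC.baseChange0Sh f g f' g' h.w F)
        ((Scheme.pointSmallEtale (η ≫ g)).toPresheafFiber V l ((EtDesc.pushSh f).obj F).obj x) =
      (Scheme.pointSmallEtale η).toPresheafFiber ((EtCoh.bc g).obj V) (liftBc g η V l)
        ((EtDesc.pushSh f').obj ((EtDesc.pullSh g').obj F)).obj
        (((EtDesc.pullSh g').obj F).obj.map (kappa f g f' g' h V).op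
          (((EtDesc.adjSh g').unit.app F).hom.app (op ((EtCoh.bc f).obj V)) x)) := by
  exact bcStalk_germ f g f' g' h η F _ (isBC_sh f g f' g' h F) V l x

include h in
theorem bcStalk_germ_ab (V : Y.Etale) (l : (Scheme.pointSmallEtale (η ≫ g)).fiber.obj V)
    (x : EtCoh.sect G ((EtCoh.bc f).obj V)) :
    bcStalk f g f' g' η G (EtCoh.baseChange0 f g f' g' h.w G)
        ((Scheme.pointSmallEtale (η ≫ g)).toPresheafFiber V l ((EtCoh.push f).obj G).obj x) =
      (Scheme.pointSmallEtale η).toPresheafFiber ((EtCoh.bc g).obj V) (liftBc g η V l)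
        ((EtCoh.push f').obj ((EtCoh.pull g').obj G)).obj
        (((EtCoh.pull g').obj G).obj.map (kappa f g f' g' h V).op
          (((EtCoh.pullPushAdj g').unit.app G).hom.app (op ((EtCoh.bc f).obj V)) x)) := by
  exact bcStalk_germ f g f' g' h η G _ (isBC_ab f g f' g' h G) V l x

/-- The map of direct images. -/
abbrev pushIncl {X Y : Scheme.{u}} (f : X ⟶ Y) {P : X.Etaleᵒᵖ ⥤ Type (u + 1)}
    {Q : X.Etaleᵒᵖ ⥤ AddCommGrpCat.{u + 1}} (κ : P ⟶ Q ⋙ forget AddCommGrpCat.{u + 1}) :
    (EtCoh.bc f).op ⋙ P ⟶ ((EtCoh.bc f).op ⋙ Q) ⋙ forget AddCommGrpCat.{u + 1} :=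
  Functor.whiskerLeft (EtCoh.bc f).op κ

include h in
theorem fibU_bcStalk (z : ToType ((Scheme.pointSmallEtale (η ≫ g)).presheafFiber.obj ((EtDesc.pushSh f).obj F).obj)) :
    fibU η (pushIncl f' (pullInclP g' F κ)) (bcStalk f g f' g' η F (EtBC.baseChange0Sh f g f' g' h.w F) z) =
      bcStalk f g f' g' η G (EtCoh.baseChange0 f g f' g' h.w G) (fibU (η ≫ g) (pushIncl f κ) z) := by
  obtain ⟨V, l, x, rfl⟩ := (Scheme.pointSmallEtale (η ≫ g)).toPresheafFiber_jointly_surjective z
  refine (congrArg (fibU η (pushIncl f' (pullInclP g' F κ))) (bcStalk_germ_sh f g f' g' h F η V l x)).trans ?_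
  refine (fibU_germ η (pushIncl f' (pullInclP g' F κ)) _ _ _).trans ?_
  refine Eq.trans ?_ ((congrArg (bcStalk f g f' g' η G (EtCoh.baseChange0 f g f' g' h.w G))
    (fibU_germ (η ≫ g) (pushIncl f κ) V l x)).trans (bcStalk_germ_ab f g f' g' h η V l _)).symm
  refine congrArg ((Scheme.pointSmallEtale η).toPresheafFiber ((EtCoh.bc g).obj V) (liftBc g η V l)
    ((EtCoh.push f').obj ((EtCoh.pull g').obj G)).obj) ?_
  exact (kap_map (pullInclP g' F κ) (kappa f g f' g' h V) _).trans
    (congrArg (((EtCoh.pull g').obj G).obj.map (kappa f g f' g' h V).op) (pullIncl_unit g' F κ _ x))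

variable (hG : Function.Bijective (bcStalk f g f' g' η G (EtCoh.baseChange0 f g f' g' h.w G)))

include hκ hG h in
theorem bcStalk_injective_sh : Function.Injective (bcStalk f g f' g' η F (EtBC.baseChange0Sh f g f' g' h.w F)) :=
  fun a b e => fibU_injective (η ≫ g) (pushIncl f κ) (fun U => hκ _)
    (hG.1 (((fibU_bcStalk f g f' g' h F κ η a).symm.trans (congrArg _ e)).trans (fibU_bcStalk f g f' g' h F κ η b)))

include hκ hG h in
theorem bcStalk_surjective_sh (hfg : Spreads f g) :
    Function.Surjective (bcStalk f g f' g' η F (EtBC.baseChange0Sh f g f' g' h.w F)) := by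
  intro c
  obtain ⟨b, hb⟩ := hG.2 (fibU η (pushIncl f' (pullInclP g' F κ)) c)
  obtain ⟨V, l, s, rfl⟩ := (Scheme.pointSmallEtale (η ≫ g)).toPresheafFiber_jointly_surjective b
  change bcStalk f g f' g' η G (EtCoh.baseChange0 f g f' g' h.w G)
    ((Scheme.pointSmallEtale (η ≫ g)).toPresheafFiber V l ((EtCoh.push f).obj G).obj s) = _ at hb
  rw [bcStalk_germ_ab f g f' g' h η V l s] at hb
  obtain ⟨S₀, lS₀, t, rfl⟩ := (Scheme.pointSmallEtale η).toPresheafFiber_jointly_surjective (P := ((EtDesc.pushSh f').obj ((EtDesc.pullSh g').obj F)).obj) c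
  replace hb := hb.trans (fibU_germ η (pushIncl f' (pullInclP g' F κ)) S₀ lS₀ t)
  let E₁ := (Scheme.pointSmallEtale η).fiber.elementsMk ((EtCoh.bc g).obj V) (liftBc g η V l)
  let E₂ := (Scheme.pointSmallEtale η).fiber.elementsMk S₀ lS₀
  let E := IsCofiltered.min E₁ E₂
  let k₁ : E.1 ⟶ (EtCoh.bc g).obj V := (IsCofiltered.minToLeft E₁ E₂).1
  let k₂ : E.1 ⟶ S₀ := (IsCofiltered.minToRight E₁ E₂).1
  have hk₁ : (Scheme.pointSmallEtale η).fiber.map k₁ E.2 = liftBc g η V l := (IsCofiltered.minToLeft E₁ E₂).2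
  have hk₂ : (Scheme.pointSmallEtale η).fiber.map k₂ E.2 = lS₀ := (IsCofiltered.minToRight E₁ E₂).2
  rw [← hk₁, ← hk₂, ← (Scheme.pointSmallEtale η).toPresheafFiber_w_apply,
    ← (Scheme.pointSmallEtale η).toPresheafFiber_w_apply] at hb
  obtain ⟨S, k, lS, hlS, hst⟩ := ((Scheme.pointSmallEtale η).toPresheafFiber_eq_iff' _ _ _ _).1 hb
  let K := (EtCoh.bc f').map (k ≫ k₁) ≫ kappa f g f' g' h V
  let t' := ((EtDesc.pullSh g').obj F).obj.map ((EtCoh.bc f').map (k ≫ k₂)).op t
  have hK : ((EtCoh.pull g').obj G).obj.map K.op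
      (((EtCoh.pullPushAdj g').unit.app G).hom.app (op ((EtCoh.bc f).obj V)) s) =
      (pullInclP g' F κ).app (op ((EtCoh.bc f').obj S)) t' := by
    refine Eq.trans ?_ ((hst.trans ?_))
    · show _ = ((EtCoh.pull g').obj G).obj.map ((EtCoh.bc f').map k).op
        (((EtCoh.pull g').obj G).obj.map ((EtCoh.bc f').map k₁).op _)
      simp only [K, Functor.map_comp, op_comp, Category.assoc, ConcreteCategory.comp_apply]
    · show ((EtCoh.pull g').obj G).obj.map ((EtCoh.bc f').map k).op
        (((EtCoh.pull g').obj G).obj.map ((EtCoh.bc f').map k₂).op _) = _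
      rw [← Functor.map_comp_apply, ← op_comp, ← Functor.map_comp]
      exact (kap_map (pullInclP g' F κ) ((EtCoh.bc f').map (k ≫ k₂)) t).symm
  let r := K.left ≫ bcFst g' ((EtCoh.bc f).obj V)
  have hr : ∀ y, r y ∈ imageLocus κ s := by
    intro y
    obtain ⟨Ω', _, _, ζ, x, rfl⟩ := HensH0.exists_geom (X := X') ((EtCoh.bc f').obj S) y
    obtain ⟨a, ha⟩ := (bijective_unitStalk g' ζ F).2
      ((Scheme.pointSmallEtale ζ).toPresheafFiber _ x ((EtDesc.pullSh g').obj F).obj t')
    let x' : (Scheme.pointSmallEtale (ζ ≫ g')).fiber.obj ((EtCoh.bc f).obj V) :=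
      Over.homMk (liftHom ζ x ≫ r) (by
        show (liftHom ζ x ≫ K.left ≫ bcFst g' _) ≫ ((EtCoh.bc f).obj V).hom = ζ ≫ g'
        rw [Category.assoc, Category.assoc, bcFst, pullback.condition, ← Category.assoc K.left,
          ← Category.assoc]
        exact congrArg (· ≫ g') ((congrArg (liftHom ζ x ≫ ·) (MorphismProperty.Over.w K)).trans (liftHom_comp ζ x)))
    have hx' : (Scheme.pointSmallEtale ζ).fiber.map K x = liftBc g' ζ _ x' :=
      fiber_bc_ext g' ζ ((congrArg (· ≫ bcFst g' _) (liftHom_map ζ K x)).trans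
        ((Category.assoc _ _ _).trans (liftHom_liftBc_fst g' ζ _ x').symm))
    have e1 : fibU (ζ ≫ g') κ a = (Scheme.pointSmallEtale (ζ ≫ g')).toPresheafFiber _ x' G.obj s := by
      refine (bijective_unitStalk g' ζ G).1 ?_
      rw [← fibU_pullIncl_unitStalk, ha, fibU_germ, ← hK, (Scheme.pointSmallEtale ζ).toPresheafFiber_w_apply, hx']
      exact ((ConcreteCategory.comp_apply _ _ _).symm.trans
        (ConcreteCategory.congr_hom (toPresheafFiber_unitStalk g' ζ G _ x') s)).symm
    obtain ⟨U₀, l₀, t₀, rfl⟩ := (Scheme.pointSmallEtale (ζ ≫ g')).toPresheafFiber_jointly_surjective (P := F.obj) a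
    rw [fibU_germ] at e1
    let D₁ := (Scheme.pointSmallEtale (ζ ≫ g')).fiber.elementsMk U₀ l₀
    let D₂ := (Scheme.pointSmallEtale (ζ ≫ g')).fiber.elementsMk ((EtCoh.bc f).obj V) x'
    let D := IsCofiltered.min D₁ D₂
    let d₁ : D.1 ⟶ U₀ := (IsCofiltered.minToLeft D₁ D₂).1
    let d₂ : D.1 ⟶ (EtCoh.bc f).obj V := (IsCofiltered.minToRight D₁ D₂).1
    have hd₁ : (Scheme.pointSmallEtale (ζ ≫ g')).fiber.map d₁ D.2 = l₀ := (IsCofiltered.minToLeft D₁ D₂).2
    have hd₂ : (Scheme.pointSmallEtale (ζ ≫ g')).fiber.map d₂ D.2 = x' := (IsCofiltered.minToRight D₁ D₂).2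
    rw [← hd₁, ← hd₂, ← (Scheme.pointSmallEtale (ζ ≫ g')).toPresheafFiber_w_apply,
      ← (Scheme.pointSmallEtale (ζ ≫ g')).toPresheafFiber_w_apply] at e1
    obtain ⟨W, w, m, hm, hw⟩ := ((Scheme.pointSmallEtale (ζ ≫ g')).toPresheafFiber_eq_iff' _ _ _ _).1 e1
    refine Set.mem_iUnion.2 ⟨W, Set.mem_iUnion.2 ⟨w ≫ d₂, Set.mem_iUnion.2
      ⟨⟨F.obj.map (w ≫ d₁).op t₀, ?_⟩, liftHom (ζ ≫ g') m default, ?_⟩⟩⟩
    · rw [kap_map, op_comp, op_comp, Functor.map_comp_apply, Functor.map_comp_apply]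
      exact hw
    · refine (Scheme.Hom.comp_apply _ _ _).symm.trans ?_
      have : liftHom (ζ ≫ g') m ≫ (w ≫ d₂).left = liftHom ζ x ≫ r := by
        refine (liftHom_map (ζ ≫ g') (w ≫ d₂) m).symm.trans ?_
        rw [Functor.map_comp, ConcreteCategory.comp_apply, hm, hd₂]
        rfl
      exact (congrArg (fun q => q default) this).trans (Scheme.Hom.comp_apply _ _ _)
  have hv0 : ((k ≫ k₁).left ≫ bcFst g V) (liftHom η lS default) = liftHom (η ≫ g) l default := by
    have hS : (k ≫ k₁).left (liftHom η lS default) = liftHom η (liftBc g η V l) default := by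
      rw [← Scheme.Hom.comp_apply, ← liftHom_map, Functor.map_comp, ConcreteCategory.comp_apply, hlS, hk₁]
    rw [Scheme.Hom.comp_apply, hS, ← Scheme.Hom.comp_apply, liftHom_liftBc_fst]
  have hover : ∀ (y : ((EtCoh.bc f).obj V).left) (σ : S.left),
      ((k ≫ k₁).left ≫ bcFst g V) σ = bcFst f V y → y ∈ imageLocus κ s := by
    intro y σ hσ
    obtain ⟨z, hz, -⟩ := Scheme.Pullback.exists_preimage_pullback (f := bcFst f V)
      (g := (k ≫ k₁).left ≫ bcFst g V) y σ hσ.symm
    let iso := (isPullback_bc_bc f g f' g' h V S (k ≫ k₁)).isoPullback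
    refine Eq.subst (motive := (· ∈ imageLocus κ s)) ?_ (hr (iso.inv z))
    refine Eq.trans ((Scheme.Hom.comp_apply _ _ _).symm.trans ?_) hz
    exact congrArg (fun q => q z) ((isPullback_bc_bc f g f' g' h V S (k ≫ k₁)).isoPullback_inv_fst)
  obtain ⟨O, hlO, hOim⟩ : ∃ O : V.left.Opens, liftHom (η ≫ g) l default ∈ O ∧
      ∀ y, bcFst f V y ∈ O → y ∈ imageLocus κ s := by
    obtain ⟨O, hO, hO'⟩ := hfg V (imageLocus κ s) (isOpen_imageLocus κ s) S (k ≫ k₁) hover
      (liftHom η lS default)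
    exact ⟨O, Eq.subst (motive := (· ∈ O)) hv0 hO, hO'⟩
  obtain ⟨l', hl'⟩ := exists_fiber_map_eq (η ≫ g) (openIncl V O) l (⟨_, hlO⟩ : O.toScheme) rfl
  obtain ⟨z, hz⟩ := exists_preimage_of_imageLocus κ hκ
    (G.obj.map ((EtCoh.bc f).map (openIncl V O)).op s) fun y => by
      have hy : ((EtCoh.bc f).map (openIncl V O)).left y ∈ imageLocus κ s := by
        refine hOim _ ?_
        have e := congrArg (fun q => q y) (bcFst_map f (openIncl V O))
        simp only [Scheme.Hom.comp_apply] at e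
        exact Eq.subst (motive := (· ∈ O)) e.symm (bcFst f (openSub V O) y).2
      obtain ⟨W, hW⟩ := Set.mem_iUnion.1 hy
      obtain ⟨w, hw⟩ := Set.mem_iUnion.1 hW
      obtain ⟨⟨t₀, ht₀⟩, v, hv⟩ := Set.mem_iUnion.1 hw
      obtain ⟨Ω', _, _, ζ, x, rfl⟩ := HensH0.exists_geom (X := X) ((EtCoh.bc f).obj (openSub V O)) y
      obtain ⟨m, hm⟩ := exists_fiber_map_eq ζ w ((Scheme.pointSmallEtale ζ).fiber.map
        ((EtCoh.bc f).map (openIncl V O)) x) v (hv.trans (Scheme.Hom.comp_apply _ _ _).symm)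
      let D₁ := (Scheme.pointSmallEtale ζ).fiber.elementsMk W m
      let D₂ := (Scheme.pointSmallEtale ζ).fiber.elementsMk _ x
      haveI := (Scheme.pointSmallEtale ζ).isCofiltered
      obtain ⟨D, d₁, d₂, -⟩ := IsCofilteredOrEmpty.cone_objs D₁ D₂
      obtain ⟨D', dd, m', hdd, hm'⟩ : ∃ (D' : X.Etale) (dd : D' ⟶ D.1) (m' : (Scheme.pointSmallEtale ζ).fiber.obj D'),
          dd ≫ d₁.1 ≫ w = dd ≫ d₂.1 ≫ (EtCoh.bc f).map (openIncl V O) ∧
          (Scheme.pointSmallEtale ζ).fiber.map dd m' = D.2 := by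
        let a : D ⟶ (Scheme.pointSmallEtale ζ).fiber.elementsMk _
            ((Scheme.pointSmallEtale ζ).fiber.map ((EtCoh.bc f).map (openIncl V O)) x) :=
          ⟨d₁.1 ≫ w, (Functor.map_comp_apply _ _ _ _).trans ((congrArg _ d₁.2).trans hm)⟩
        let a' : D ⟶ (Scheme.pointSmallEtale ζ).fiber.elementsMk _
            ((Scheme.pointSmallEtale ζ).fiber.map ((EtCoh.bc f).map (openIncl V O)) x) :=
          ⟨d₂.1 ≫ (EtCoh.bc f).map (openIncl V O), (Functor.map_comp_apply _ _ _ _).trans (congrArg _ d₂.2)⟩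
        obtain ⟨D', dd, e⟩ := IsCofilteredOrEmpty.cone_maps a a'
        exact ⟨D'.1, dd.1, D'.2, congrArg Subtype.val e, dd.2⟩
      refine Set.mem_iUnion.2 ⟨D', Set.mem_iUnion.2 ⟨dd ≫ d₂.1, Set.mem_iUnion.2
        ⟨⟨F.obj.map (dd ≫ d₁.1).op t₀, ?_⟩, liftHom ζ m' default, ?_⟩⟩⟩
      · rw [kap_map, ht₀, ← Functor.map_comp_apply, ← Functor.map_comp_apply, ← op_comp, ← op_comp,
          Category.assoc, Category.assoc, hdd]
      · refine (Scheme.Hom.comp_apply _ _ _).symm.trans (congrArg (fun q : Spec (CommRingCat.of Ω') ⟶ ((EtCoh.bc f).obj (openSub V O)).left => q default) ?_)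
        refine (liftHom_map ζ (dd ≫ d₂.1) m').symm.trans (congrArg (liftHom ζ) ?_)
        exact (Functor.map_comp_apply _ _ _ _).trans ((congrArg _ hm').trans d₂.2)
  refine ⟨(Scheme.pointSmallEtale (η ≫ g)).toPresheafFiber (openSub V O) l' ((EtDesc.pushSh f).obj F).obj z, ?_⟩
  refine fibU_injective η (pushIncl f' (pullInclP g' F κ)) (fun U => pullIncl_injective g' F κ hκ _) ?_
  refine (fibU_bcStalk f g f' g' h F κ η _).trans ?_
  refine Eq.trans ?_ (fibU_germ η (pushIncl f' (pullInclP g' F κ)) S₀ lS₀ t).symm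
  refine (congrArg (bcStalk f g f' g' η G (EtCoh.baseChange0 f g f' g' h.w G))
    (fibU_germ (η ≫ g) (pushIncl f κ) (openSub V O) l' z)).trans ?_
  have hz' : (Scheme.pointSmallEtale (η ≫ g)).toPresheafFiber (openSub V O) l' ((EtCoh.push f).obj G).obj
      ((pushIncl f κ).app (op (openSub V O)) z) =
      (Scheme.pointSmallEtale (η ≫ g)).toPresheafFiber V l ((EtCoh.push f).obj G).obj s := by
    rw [← hl', ← (Scheme.pointSmallEtale (η ≫ g)).toPresheafFiber_w_apply]
    exact congrArg _ hz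
  refine (congrArg (bcStalk f g f' g' η G (EtCoh.baseChange0 f g f' g' h.w G)) hz').trans ?_
  refine (bcStalk_germ_ab f g f' g' h η V l s).trans ?_
  rw [← hk₁, ← hk₂, ← (Scheme.pointSmallEtale η).toPresheafFiber_w_apply,
    ← (Scheme.pointSmallEtale η).toPresheafFiber_w_apply]
  exact hb

include h in
/-- Base change for sheaves of sets from that of the free abelian sheaves. -/
theorem isIso_baseChange0Sh_of_ab_spreads (hfg : Spreads f g)
    (hG : IsIso (EtCoh.baseChange0 f g f' g' h.w (freeAbOf F))) :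
    IsIso (EtBC.baseChange0Sh f g f' g' h.w F) := by
  refine isIso_of_alg_sh _ fun y => ?_
  let η := geomPtAlg y
  have hbG : Function.Bijective (bcStalk f g f' g' η (freeAbOf F) (EtCoh.baseChange0 f g f' g' h.w (freeAbOf F))) := by
    haveI := hG
    haveI : IsIso ((Scheme.pointSmallEtale η).presheafFiber.map (EtCoh.baseChange0 f g f' g' h.w (freeAbOf F)).hom) :=
      inferInstanceAs (IsIso ((Scheme.pointSmallEtale η).presheafFiber.mapIso ((ObjectProperty.ι _).mapIso
        (asIso (EtCoh.baseChange0 f g f' g' h.w (freeAbOf F))))).hom)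
    exact (ConcreteCategory.bijective_of_isIso
      ((Scheme.pointSmallEtale η).presheafFiber.map (EtCoh.baseChange0 f g f' g' h.w (freeAbOf F)).hom)).comp
      (bijective_unitStalk g η ((EtCoh.push f).obj (freeAbOf F)))
  have hb : Function.Bijective (bcStalk f g f' g' η F (EtBC.baseChange0Sh f g f' g' h.w F)) :=
    ⟨bcStalk_injective_sh f g f' g' h F (freeIncl F) (freeIncl_injective F) η hbG,
      bcStalk_surjective_sh f g f' g' h F (freeIncl F) (freeIncl_injective F) η hbG hfg⟩
  obtain ⟨hi, hs⟩ := bijective_unitStalk g η ((EtDesc.pushSh f).obj F)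
  exact (Function.Bijective.of_comp_iff _ ⟨hi, hs⟩).1 hb

include h in
/-- The case of a universally closed or universally open morphism. -/
theorem isIso_baseChange0Sh_of_ab' (hfg : UniversallyClosed f ∨ UniversallyOpen g)
    (hG : IsIso (EtCoh.baseChange0 f g f' g' h.w (freeAbOf F))) :
    IsIso (EtBC.baseChange0Sh f g f' g' h.w F) :=
  isIso_baseChange0Sh_of_ab_spreads f g f' g' h F
    (hfg.elim (spreads_of_universallyClosed f g) (spreads_of_universallyOpen f g)) hG

include h in
/-- The case of a universally closed morphism. -/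
theorem isIso_baseChange0Sh_of_ab [UniversallyClosed f]
    (hG : IsIso (EtCoh.baseChange0 f g f' g' h.w (freeAbOf F))) :
    IsIso (EtBC.baseChange0Sh f g f' g' h.w F) :=
  isIso_baseChange0Sh_of_ab' f g f' g' h F (Or.inl ‹_›) hG

end Groth.Agent.StrictLocLib
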