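import Groth.Agent.StrictLocLib.Compare
import Groth.Agent.GeomConnPull.Field
import Groth.Agent.HensH0.Proper
import Groth.Agent.Henselization.Basic
import Groth.Agent.EtPtsLib.SepClosedField

/-!
# Stalks of proper direct images as sections on the geometric fibre
-/

set_option autoImplicit false
set_option linter.unusedSectionVars false
set_option linter.style.haveILetI false
set_option backward.isDefEq.respectTransparency false
set_option backward.isDefEq.respectTransparency.types false
set_option maxHeartbeats 1000000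

universe u

open CategoryTheory CategoryTheory.Limits AlgebraicGeometry Opposite IsLocalRing
open Groth.Agent.EtPtsLib

noncomputable section

namespace Groth.Agent.StrictLocLib

section Transfer

variable {X Y C : Scheme.{u}} {q : Y ⟶ X} {t : C ⟶ Y} {g : C ⟶ X} (hw : t ≫ q = g) (F : EtCoh.Ab X)

/-- The restriction map of inverse images along `t`. -/
def transHom : (EtCoh.pull q).obj F ⟶ (EtCoh.push t).obj ((EtCoh.pull g).obj F) :=
  ((EtCoh.pullPushAdj q).homEquiv _ _).symm
    ((EtCoh.pullPushAdj g).unit.app F ≫ (EtLimLib.pushSp q t g hw).app ((EtCoh.pull g).obj F))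

theorem unit_transHom : (EtCoh.pullPushAdj q).unit.app F ≫ (EtCoh.push q).map (transHom hw F) =
    (EtCoh.pullPushAdj g).unit.app F ≫ (EtLimLib.pushSp q t g hw).app ((EtCoh.pull g).obj F) :=
  ((EtCoh.pullPushAdj q).homEquiv_unit _ _ _).symm.trans (Equiv.apply_symm_apply _ _)

/-- The comparison of iterated inverse images. -/
def transAdj : (EtCoh.pull t).obj ((EtCoh.pull q).obj F) ⟶ (EtCoh.pull g).obj F :=
  ((EtCoh.pullPushAdj t).homEquiv _ _).symm (transHom hw F)

theorem isIso_transAdj : IsIso (transAdj hw F) := by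
  haveI := EtLimLib.isIso_comparePull q t g hw F
  haveI : IsIso ((EtLimLib.comparePull q t g hw).app F ≫ transAdj hw F) := by
    rw [transAdj, transHom, EtLimLib.comparePull_transpose]
    infer_instance
  exact IsIso.of_isIso_comp_left ((EtLimLib.comparePull q t g hw).app F) _

theorem unit_transAdj : (EtCoh.pullPushAdj t).unit.app ((EtCoh.pull q).obj F) ≫
    (EtCoh.push t).map (transAdj hw F) = transHom hw F :=
  ((EtCoh.pullPushAdj t).homEquiv_unit _ _ _).symm.trans (Equiv.apply_symm_apply _ _)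

/-- The transfer of global sections. -/
def trans : (gsecF Y).obj ((EtCoh.pull q).obj F) ⟶ (gsecF C).obj ((EtCoh.pull g).obj F) :=
  (transHom hw F).hom.app (op (EtCoh.top Y)) ≫ ((EtCoh.pull g).obj F).obj.map (EtCore.bcTopIso t).inv.op

theorem trans_restrSec {W : X.Etale} (m : Y ⟶ W.left) (w : m ≫ W.hom = q) (x : EtCoh.sect F W) :
    trans hw F (restrSec m w F x) = restrSec (t ≫ m) (by rw [Category.assoc, w, hw]) F x :=
  restrSec_transfer hw m w F (transHom hw F) (unit_transHom hw F) (EtCore.bcTopIso t).inv x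

theorem bijective_trans
    (hu : Function.Bijective
      (((EtCoh.pullPushAdj t).unit.app ((EtCoh.pull q).obj F)).hom.app (op (EtCoh.top Y)))) :
    Function.Bijective (trans hw F) := by
  haveI := isIso_transAdj hw F
  haveI : IsIso ((transAdj hw F).hom.app (op ((EtCoh.bc t).obj (EtCoh.top Y)))) :=
    inferInstanceAs (IsIso (((ObjectProperty.ι _).mapIso (asIso (transAdj hw F))).app
      (op ((EtCoh.bc t).obj (EtCoh.top Y)))).hom)
  haveI : IsIso (((EtCoh.pullPushAdj t).unit.app ((EtCoh.pull q).obj F)).hom.app (op (EtCoh.top Y))) :=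
    (ConcreteCategory.isIso_iff_bijective _).2 hu
  have h1 : (transHom hw F).hom.app (op (EtCoh.top Y)) =
      ((EtCoh.pullPushAdj t).unit.app ((EtCoh.pull q).obj F)).hom.app (op (EtCoh.top Y)) ≫
        (transAdj hw F).hom.app (op ((EtCoh.bc t).obj (EtCoh.top Y))) :=
    (congrArg (fun φ => φ.hom.app (op (EtCoh.top Y))) (unit_transAdj hw F)).symm
  haveI : IsIso ((transHom hw F).hom.app (op (EtCoh.top Y))) := by rw [h1]; infer_instance
  haveI : IsIso (((EtCoh.pull g).obj F).obj.map (EtCore.bcTopIso t).inv.op) :=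
    inferInstanceAs (IsIso (((EtCoh.pull g).obj F).obj.mapIso (EtCore.bcTopIso t).symm.op).hom)
  exact ConcreteCategory.bijective_of_isIso ((transHom hw F).hom.app (op (EtCoh.top Y)) ≫ _)

end Transfer

theorem restrSec_congr {X Y : Scheme.{u}} {g : Y ⟶ X} {W : X.Etale} {m m' : Y ⟶ W.left} (e : m = m')
    (w : m ≫ W.hom = g) (w' : m' ≫ W.hom = g) (F : EtCoh.Ab X) : restrSec m w F = restrSec m' w' F := by
  subst e; rfl

section Rho

variable {X S C : Scheme.{u}} {Ω : Type u} [Field Ω] [IsSepClosed Ω] (f : X ⟶ S) (c : C ⟶ X)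
  (d : C ⟶ Spec (CommRingCat.of Ω)) (ξ : Spec (CommRingCat.of Ω) ⟶ S) (hsq : c ≫ f = d ≫ ξ)

/-- The map of a fibre to the base change of a neighbourhood. -/
def toC (U : S.Etale) (l : (Scheme.pointSmallEtale ξ).fiber.obj U) : C ⟶ ((EtCoh.bc f).obj U).left :=
  pullback.lift (d ≫ liftHom ξ l) c
    ((Category.assoc _ _ _).trans ((congrArg (d ≫ ·) (liftHom_comp ξ l)).trans hsq.symm))

theorem toC_w (U : S.Etale) (l : (Scheme.pointSmallEtale ξ).fiber.obj U) :
    toC f c d ξ hsq U l ≫ ((EtCoh.bc f).obj U).hom = c :=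
  pullback.lift_snd _ _ _

theorem toC_fst (U : S.Etale) (l : (Scheme.pointSmallEtale ξ).fiber.obj U) :
    toC f c d ξ hsq U l ≫ pullback.fst U.hom f = d ≫ liftHom ξ l :=
  pullback.lift_fst _ _ _

theorem toC_map {U V : S.Etale} (g : V ⟶ U) (l : (Scheme.pointSmallEtale ξ).fiber.obj V) :
    toC f c d ξ hsq V l ≫ ((EtCoh.bc f).map g).left =
      toC f c d ξ hsq U ((Scheme.pointSmallEtale ξ).fiber.map g l) := by
  apply pullback.hom_ext
  · refine (Category.assoc _ _ _).trans ((congrArg (_ ≫ ·) (EtLimLib.bc_map_fst f g)).trans ?_)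
    refine ((Category.assoc _ _ _).symm.trans (congrArg (· ≫ g.left) (toC_fst f c d ξ hsq V l))).trans ?_
    exact (Category.assoc _ _ _).trans
      ((congrArg (d ≫ ·) (liftHom_map ξ g l).symm).trans (toC_fst f c d ξ hsq U _).symm)
  · refine (Category.assoc _ _ _).trans ((congrArg (toC f c d ξ hsq V l ≫ ·)
      (MorphismProperty.Over.w ((EtCoh.bc f).map g))).trans ?_)
    exact (toC_w f c d ξ hsq V l).trans (toC_w f c d ξ hsq U _).symm

/-- The restriction of germs of a direct image to the fibre. -/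
def rho (F : EtCoh.Ab X) : (EtCoh.stalk ξ).obj ((EtCoh.push f).obj F) ⟶ (gsecF C).obj ((EtCoh.pull c).obj F) :=
  (Scheme.pointSmallEtale ξ).presheafFiberDesc (P := ((EtCoh.push f).obj F).obj)
    (fun U l => restrSec (toC f c d ξ hsq U l) (toC_w f c d ξ hsq U l) F)
    (fun U V g l => restrSec_map ((EtCoh.bc f).map g) _ _ _ _ (toC_map f c d ξ hsq g l) F)

theorem toPresheafFiber_rho (U : S.Etale) (l : (Scheme.pointSmallEtale ξ).fiber.obj U) (F : EtCoh.Ab X) :
    (Scheme.pointSmallEtale ξ).toPresheafFiber U l ((EtCoh.push f).obj F).obj ≫ rho f c d ξ hsq F =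
      restrSec (toC f c d ξ hsq U l) (toC_w f c d ξ hsq U l) F :=
  (Scheme.pointSmallEtale ξ).toPresheafFiber_presheafFiberDesc (P := ((EtCoh.push f).obj F).obj)
    (fun U l => restrSec (toC f c d ξ hsq U l) (toC_w f c d ξ hsq U l) F)
    (fun U V g l => restrSec_map ((EtCoh.bc f).map g) _ _ _ _ (toC_map f c d ξ hsq g l) F) U l

theorem rho_germ (U : S.Etale) (l : (Scheme.pointSmallEtale ξ).fiber.obj U) (F : EtCoh.Ab X)
    (x : EtCoh.sect ((EtCoh.push f).obj F) U) :
    rho f c d ξ hsq F ((Scheme.pointSmallEtale ξ).toPresheafFiber U l ((EtCoh.push f).obj F).obj x) =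
      restrSec (toC f c d ξ hsq U l) (toC_w f c d ξ hsq U l) F x :=
  (ConcreteCategory.comp_apply _ _ _).symm.trans
    (congrArg (fun m => (ConcreteCategory.hom m) x) (toPresheafFiber_rho f c d ξ hsq U l F))

end Rho

section AtHens

variable {X S C : Scheme.{u}} {R : Type u} [CommRing R] [HenselianLocalRing R] [IsSepClosed (ResidueField R)]
  (h : Spec (CommRingCat.of R) ⟶ S) {Ω : Type u} [Field Ω] [IsSepClosed Ω] (ι : ResidueField R →+* Ω)

/-- A geometric point over the closed point. -/
abbrev geomAbove : Spec (CommRingCat.of Ω) ⟶ S := Spec.map (CommRingCat.ofHom ι) ≫ pt h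

/-- The induced map of fibres. -/
def fibAbove (U : S.Etale) (l : Fib h U) : (Scheme.pointSmallEtale (geomAbove h ι)).fiber.obj U :=
  Over.homMk (Spec.map (CommRingCat.ofHom ι) ≫ liftHom (pt h) l) (by
    exact (Category.assoc _ _ _).trans (congrArg (Spec.map (CommRingCat.ofHom ι) ≫ ·) (liftHom_comp (pt h) l)))

theorem liftHom_fibAbove (U : S.Etale) (l : Fib h U) :
    liftHom (geomAbove h ι) (fibAbove h ι U l) = Spec.map (CommRingCat.ofHom ι) ≫ liftHom (pt h) l := rfl

theorem fibAbove_map {U V : S.Etale} (g : V ⟶ U) (l : Fib h V) :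
    (Scheme.pointSmallEtale (geomAbove h ι)).fiber.map g (fibAbove h ι V l) = fibAbove h ι U (fibMap h g l) :=
  Over.OverMorphism.ext ((liftHom_map (geomAbove h ι) g _).trans ((Category.assoc _ _ _).trans
    (congrArg (Spec.map (CommRingCat.ofHom ι) ≫ ·) (liftHom_map (pt h) g l).symm)))

theorem fibAbove_surjective (U : S.Etale) : Function.Surjective (fibAbove h ι U) := by
  intro m
  let a := Spec.map (CommRingCat.ofHom ι)
  let U' := (EtCoh.bc (pt h)).obj U
  let m' := liftBc (pt h) a U m
  obtain ⟨g, hg⟩ := exists_top_hom_field (ResidueField R) a U' m'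
  obtain ⟨y, hy⟩ := exists_fiber_map_eq a g m' (liftHom a (topPt (ResidueField R) a) default) hg
  have e : liftHom a m' = a ≫ g.left := by
    rw [← hy, liftHom_map]
    exact congrArg (· ≫ g.left) ((Category.comp_id _).symm.trans (liftHom_comp a y))
  refine ⟨Over.homMk (g.left ≫ bcFst (pt h) U) ?_, Over.OverMorphism.ext ?_⟩
  · show (g.left ≫ pullback.fst U.hom (pt h)) ≫ U.hom = pt h
    rw [Category.assoc, pullback.condition, ← Category.assoc]
    exact (congrArg (· ≫ pt h) (MorphismProperty.Over.w g)).trans (Category.id_comp _)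
  · show a ≫ g.left ≫ bcFst (pt h) U = liftHom _ m
    rw [← Category.assoc, ← e]
    exact liftHom_liftBc_fst (pt h) a U m

/-- The induced map of stalks. -/
def stalkAbove (P : S.Etaleᵒᵖ ⥤ AddCommGrpCat.{u + 1}) :
    (Scheme.pointSmallEtale (pt h)).presheafFiber.obj P ⟶
      (Scheme.pointSmallEtale (geomAbove h ι)).presheafFiber.obj P :=
  (Scheme.pointSmallEtale (pt h)).presheafFiberDesc
    (fun U l => (Scheme.pointSmallEtale (geomAbove h ι)).toPresheafFiber U (fibAbove h ι U l) P)
    (fun _ _ g l => ((Scheme.pointSmallEtale (geomAbove h ι)).toPresheafFiber_w g (fibAbove h ι _ l) P).trans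
      (congrArg (fun n => (Scheme.pointSmallEtale (geomAbove h ι)).toPresheafFiber _ n P) (fibAbove_map h ι g l)))

theorem stalkAbove_germ (P : S.Etaleᵒᵖ ⥤ AddCommGrpCat.{u + 1}) (U : S.Etale) (l : Fib h U)
    (x : ToType (P.obj (op U))) :
    stalkAbove h ι P ((Scheme.pointSmallEtale (pt h)).toPresheafFiber U l P x) =
      (Scheme.pointSmallEtale (geomAbove h ι)).toPresheafFiber U (fibAbove h ι U l) P x :=
  (ConcreteCategory.comp_apply _ _ _).symm.trans
    (congrArg (fun m : P.obj (op U) ⟶ (Scheme.pointSmallEtale (geomAbove h ι)).presheafFiber.obj P =>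
        (ConcreteCategory.hom m) x)
      ((Scheme.pointSmallEtale (pt h)).toPresheafFiber_presheafFiberDesc
        (fun U l => (Scheme.pointSmallEtale (geomAbove h ι)).toPresheafFiber U (fibAbove h ι U l) P)
        (fun _ _ g l => ((Scheme.pointSmallEtale (geomAbove h ι)).toPresheafFiber_w g (fibAbove h ι _ l) P).trans
          (congrArg (fun n => (Scheme.pointSmallEtale (geomAbove h ι)).toPresheafFiber _ n P) (fibAbove_map h ι g l)))
        U l))

theorem stalkAbove_surjective (P : S.Etaleᵒᵖ ⥤ AddCommGrpCat.{u + 1}) : Function.Surjective (stalkAbove h ι P) := by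
  intro z
  obtain ⟨U, m, x, rfl⟩ := (Scheme.pointSmallEtale (geomAbove h ι)).toPresheafFiber_jointly_surjective z
  obtain ⟨l, rfl⟩ := fibAbove_surjective h ι U m
  exact ⟨_, stalkAbove_germ h ι P U l x⟩

variable (f : X ⟶ S) [IsProper f] (c : C ⟶ X) (d : C ⟶ Spec (CommRingCat.of Ω)) (N : NbhdSys h)

include N in
theorem bijective_rho_above (sq : IsPullback c d f (geomAbove h ι)) (F : EtCoh.Ab X) :
    Function.Bijective (rho f c d (geomAbove h ι) sq.w F) := by
  let a := Spec.map (CommRingCat.ofHom ι)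
  let fR := pullback.snd f h
  haveI : IsProper fR := MorphismProperty.pullback_snd _ _ ‹IsProper f›
  let j := pullback.fst fR (resPt R)
  let c₀ := j ≫ proj h f
  let C₀ := pullback fR (resPt R)
  have sq₀ : IsPullback c₀ (pullback.snd fR (resPt R)) f (pt h) :=
    (IsPullback.of_hasPullback fR (resPt R)).paste_horiz (IsPullback.of_hasPullback f h)
  let a' : C ⟶ C₀ := sq₀.lift c (d ≫ a) (sq.w.trans (Category.assoc _ _ _).symm)
  have ha' : a' ≫ c₀ = c := sq₀.lift_fst _ _ _
  have sqa : IsPullback a' d (pullback.snd fR (resPt R)) a := by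
    refine IsPullback.of_right ?_ (sq₀.lift_snd _ _ _) sq₀
    rw [ha']
    exact sq
  have hu1 : Function.Bijective (((EtCoh.pullPushAdj j).unit.app ((EtCoh.pull (proj h f)).obj F)).hom.app
      (op (EtCoh.top (pullback f h)))) :=
    HensH0.bijective_unit_top (maximalIdeal R) fR _
  haveI := GeomConnPull.isIso_unit_fieldExt ι sqa ((EtCoh.pull c₀).obj F)
  have hu2 : Function.Bijective (((EtCoh.pullPushAdj a').unit.app ((EtCoh.pull c₀).obj F)).hom.app
      (op (EtCoh.top C₀))) := by
    haveI : IsIso (((EtCoh.pullPushAdj a').unit.app ((EtCoh.pull c₀).obj F)).hom.app (op (EtCoh.top C₀))) :=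
      inferInstanceAs (IsIso (((ObjectProperty.ι _).mapIso
        (asIso ((EtCoh.pullPushAdj a').unit.app ((EtCoh.pull c₀).obj F)))).app (op (EtCoh.top C₀))).hom)
    exact ConcreteCategory.bijective_of_isIso _
  have hb := ((bijective_trans ha' F hu2).comp (bijective_trans (rfl : j ≫ proj h f = c₀) F hu1)).comp
    (bijective_compare h f N F)
  have hfac : ∀ z, rho f c d (geomAbove h ι) sq.w F (stalkAbove h ι ((EtCoh.push f).obj F).obj z) =
      trans ha' F (trans (rfl : j ≫ proj h f = c₀) F ((compare h f).app F z)) := by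
    intro z
    obtain ⟨U, l, x, rfl⟩ := (Scheme.pointSmallEtale (pt h)).toPresheafFiber_jointly_surjective z
    have e : (compare h f).app F ((Scheme.pointSmallEtale (pt h)).toPresheafFiber U l ((EtCoh.push f).obj F).obj x) =
        restrSec (toBC h f U l) (toBC_w h f U l) F x :=
      (ConcreteCategory.comp_apply _ _ _).symm.trans
        (congrArg (fun m => (ConcreteCategory.hom m) x) (toPresheafFiber_compare h f U l F))
    refine (congrArg (rho f c d (geomAbove h ι) sq.w F) (stalkAbove_germ h ι _ U l x)).trans ?_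
    refine ((rho_germ f c d (geomAbove h ι) sq.w U (fibAbove h ι U l) F x).trans ?_).trans
      (congrArg (fun y => trans ha' F (trans (rfl : j ≫ proj h f = c₀) F y)) e).symm
    refine Eq.trans ?_ ((congrArg (trans ha' F) (trans_restrSec (rfl : j ≫ proj h f = c₀) F _ _ x)).trans
      (trans_restrSec ha' F _ _ x)).symm
    refine congrArg (fun m : F.obj.obj (op ((EtCoh.bc f).obj U)) ⟶ (gsecF C).obj ((EtCoh.pull c).obj F) =>
      (ConcreteCategory.hom m) x) (restrSec_congr ?_ _ _ F)
    apply pullback.hom_ext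
    · refine (toC_fst f c d (geomAbove h ι) sq.w U (fibAbove h ι U l)).trans ?_
      rw [Category.assoc, Category.assoc, toBC_fst, liftHom_fibAbove]
      refine (congrArg (fun p => d ≫ Spec.map (CommRingCat.ofHom ι) ≫ p) (resPt_liftOf h U l).symm).trans ?_
      show d ≫ a ≫ resPt R ≫ liftOf h U l = a' ≫ j ≫ fR ≫ liftOf h U l
      rw [← Category.assoc j, pullback.condition, Category.assoc, ← Category.assoc a' (pullback.snd fR (resPt R)),
        show a' ≫ pullback.snd fR (resPt R) = d ≫ a from sq₀.lift_snd _ _ _, Category.assoc]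
    · refine (toC_w f c d (geomAbove h ι) sq.w U (fibAbove h ι U l)).trans ?_
      rw [Category.assoc, Category.assoc]
      exact ha'.symm.trans (congrArg (fun p => a' ≫ j ≫ p) (toBC_w h f U l).symm)
  refine ⟨fun z₁ z₂ e => ?_, fun y => ?_⟩
  · obtain ⟨w₁, rfl⟩ := stalkAbove_surjective h ι ((EtCoh.push f).obj F).obj z₁
    obtain ⟨w₂, rfl⟩ := stalkAbove_surjective h ι ((EtCoh.push f).obj F).obj z₂
    rw [hb.1 ((hfac w₁).symm.trans (e.trans (hfac w₂)))]
  · obtain ⟨z, hz⟩ := hb.2 y
    exact ⟨_, (hfac z).trans hz⟩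

end AtHens

/-- Germs of a proper direct image are the sections on the geometric fibre. -/
theorem bijective_rho {X S C : Scheme.{u}} {Ω : Type u} [Field Ω] [IsSepClosed Ω] (f : X ⟶ S) [IsProper f]
    (c : C ⟶ X) (d : C ⟶ Spec (CommRingCat.of Ω)) (ξ : Spec (CommRingCat.of Ω) ⟶ S) (sq : IsPullback c d f ξ)
    (F : EtCoh.Ab X) : Function.Bijective (rho f c d ξ sq.w F) := by
  haveI : IsLocalRing (CommRingCat.of Ω) := inferInstanceAs (IsLocalRing Ω)
  obtain ⟨a, ha, haξ⟩ := exists_stalkHom ξ _ rfl
  let s := ξ (closedPoint (CommRingCat.of Ω))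
  haveI := ha
  obtain ⟨R, _, _, _, _, hR⟩ := Henselization.exists_strictHenselization (S.presheaf.stalk s)
  haveI := hR
  haveI := Hensel.IsStrictHenselization.henselian (R := S.presheaf.stalk s) (S := R)
  have hsep := Hensel.IsStrictHenselization.isSepClosure (R := S.presheaf.stalk s) (S := R)
  haveI : IsSepClosed (ResidueField R) := hsep.sep_closed
  let α : ResidueField (S.presheaf.stalk s) →+* Ω :=
    ResidueField.lift a.hom
  letI : Algebra (ResidueField (S.presheaf.stalk s)) Ω := α.toAlgebra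
  haveI : Algebra.IsSeparable (ResidueField (S.presheaf.stalk s)) (ResidueField R) := hsep.separable
  let ι : ResidueField R →ₐ[ResidueField (S.presheaf.stalk s)] Ω := IsSepClosed.lift
  have e : geomAbove (Hens2.specOf S s R) ι.toRingHom = ξ := by
    refine Eq.trans ?_ haξ
    show Spec.map _ ≫ Spec.map _ ≫ Spec.map _ ≫ S.fromSpecStalk s = Spec.map a ≫ S.fromSpecStalk s
    rw [← Category.assoc, ← Category.assoc, ← Spec.map_comp, ← Spec.map_comp]
    refine congrArg (fun m => Spec.map m ≫ S.fromSpecStalk s) (CommRingCat.hom_ext (RingHom.ext fun x => ?_))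
    exact ι.commutes (residue (S.presheaf.stalk s) x)
  obtain ⟨N⟩ := exists_nbhdSys (Hens2.specOf S s R) (bijective_germVal S s R)
  have key : ∀ (ξ' : Spec (CommRingCat.of Ω) ⟶ S) (sq' : IsPullback c d f ξ'),
      geomAbove (Hens2.specOf S s R) ι.toRingHom = ξ' → Function.Bijective (rho f c d ξ' sq'.w F) := by
    rintro _ sq' rfl
    exact bijective_rho_above (Hens2.specOf S s R) ι.toRingHom f c d N sq' F
  exact key ξ sq e

end Groth.Agent.StrictLocLib
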