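import Groth.Agent.StrictLocLib.FlatBC
import Groth.Agent.SmoothConnLib.Fibres

/-!
# Base change along smooth morphisms in degree zero
-/

set_option autoImplicit false
set_option linter.style.haveILetI false
set_option backward.isDefEq.respectTransparency false
set_option backward.isDefEq.respectTransparency.types false

universe u

open CategoryTheory CategoryTheory.Limits AlgebraicGeometry Opposite

noncomputable section

namespace Groth.Agent.StrictLocLib

/-- Smooth base change for abelian sheaves in degree zero. -/
theorem isIso_baseChange0_of_smooth {X S Y T : Scheme.{u}} (g : T ⟶ S) [QuasiCompact g] [QuasiSeparated g]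
    (f : X ⟶ S) [Smooth f] (h : Y ⟶ X) (e : Y ⟶ T) (hc : IsPullback e h g f) (F : EtCoh.Ab T) :
    IsIso (EtCoh.baseChange0 g f h e hc.w F) :=
  isIso_baseChange0_of_flat g f h e hc
    (fun x RS _ _ _ _ _ RX _ _ _ _ _ ψ _ hψ Ω _ _ η => SmoothConnLib.connectedSpace_fibre_of_smooth f x RS RX ψ hψ Ω η) F

end Groth.Agent.StrictLocLib
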