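import Groth.Agent.StrictLocLib.Lift
import Groth.Agent.EtLocalLib.Henselian

/-!
# Germs of functions on étale neighbourhoods in a strictly henselian ring

For a strictly henselian local ring `R` and `h : Spec R → S`, every étale neighbourhood of the
geometric point at the closed point receives `Spec R`, compatibly. This gives a map from the étale
local ring at that point to `R`.
-/

set_option autoImplicit false
set_option linter.unusedSectionVars false
set_option linter.style.haveILetI false
set_option backward.isDefEq.respectTransparency false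
set_option backward.isDefEq.respectTransparency.types false

universe u

open CategoryTheory CategoryTheory.Limits AlgebraicGeometry Opposite IsLocalRing
open Groth.Agent.EtPtsLib

noncomputable section

namespace Groth.Agent.StrictLocLib

variable {S : Scheme.{u}} {R : Type u} [CommRing R] [HenselianLocalRing R] [IsSepClosed (ResidueField R)]
  (h : Spec (CommRingCat.of R) ⟶ S)

/-- The geometric point at the closed point. -/
abbrev pt : Spec (CommRingCat.of (ResidueField R)) ⟶ S := resPt R ≫ h

/-- An étale neighbourhood of the closed point. -/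
abbrev Fib (U : S.Etale) := (Scheme.pointSmallEtale (pt h)).fiber.obj U

/-- The map of neighbourhoods. -/
abbrev fibMap {U V : S.Etale} (g : V ⟶ U) (l : Fib h V) : Fib h U := (Scheme.pointSmallEtale (pt h)).fiber.map g l

theorem exists_liftOf (U : S.Etale) (l : Fib h U) :
    ∃ v : Spec (CommRingCat.of R) ⟶ U.left, v ≫ U.hom = h ∧ resPt R ≫ v = liftHom (pt h) l :=
  @exists_lift R _ _ U.left S U.hom U.prop h (liftHom (pt h) l) (liftHom_comp (pt h) l)

/-- The map of `Spec R` to a neighbourhood. -/
def liftOf (U : S.Etale) (l : Fib h U) : Spec (CommRingCat.of R) ⟶ U.left := (exists_liftOf h U l).choose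

theorem liftOf_w (U : S.Etale) (l : Fib h U) : liftOf h U l ≫ U.hom = h := (exists_liftOf h U l).choose_spec.1

theorem resPt_liftOf (U : S.Etale) (l : Fib h U) : resPt R ≫ liftOf h U l = liftHom (pt h) l :=
  (exists_liftOf h U l).choose_spec.2

theorem eq_liftOf (U : S.Etale) (l : Fib h U) (v : Spec (CommRingCat.of R) ⟶ U.left) (h₁ : v ≫ U.hom = h)
    (h₂ : resPt R ≫ v = liftHom (pt h) l) : v = liftOf h U l := by
  haveI : Etale U.hom := U.prop
  exact lift_unique U.hom (h₁.trans (liftOf_w h U l).symm) (h₂.trans (resPt_liftOf h U l).symm)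

theorem liftOf_map {U V : S.Etale} (g : V ⟶ U) (l : Fib h V) :
    liftOf h V l ≫ g.left = liftOf h U (fibMap h g l) :=
  eq_liftOf h U _ _ (by rw [Category.assoc, MorphismProperty.Over.w g, liftOf_w])
    (by rw [← Category.assoc, resPt_liftOf]; rfl)

/-- The value in `R` of a function on a neighbourhood. -/
def valOf (U : S.Etale) (l : Fib h U) : Γ(U.left, ⊤) ⟶ CommRingCat.of R :=
  (liftOf h U l).appTop ≫ (Scheme.ΓSpecIso _).hom

theorem valOf_map {U V : S.Etale} (g : V ⟶ U) (l : Fib h V) :
    g.left.appTop ≫ valOf h V l = valOf h U (fibMap h g l) := by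
  rw [valOf, valOf, ← liftOf_map, Scheme.Hom.comp_appTop, Category.assoc]

/-- The map from the étale local ring. -/
def germVal : EtBase.etaleLocalRing (pt h) ⟶ CommRingCat.of R :=
  (Scheme.pointSmallEtale (pt h)).presheafFiberDesc (P := EtBase.OO S) (fun U l => valOf h U l)
    (fun _ _ g l => valOf_map h g l)

theorem germR_germVal (U : S.Etale) (l : Fib h U) :
    (Scheme.pointSmallEtale (pt h)).toPresheafFiber U l (EtBase.OO S) ≫ germVal h = valOf h U l :=
  (Scheme.pointSmallEtale (pt h)).toPresheafFiber_presheafFiberDesc (P := EtBase.OO S) (fun U l => valOf h U l)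
    (fun _ _ g l => valOf_map h g l) U l

theorem valOf_residue (U : S.Etale) (l : Fib h U) :
    valOf h U l ≫ CommRingCat.ofHom (residue R) = EtLocalLib.evalAt (pt h) U l := by
  rw [valOf, EtLocalLib.evalAt, ← resPt_liftOf, Scheme.Hom.comp_appTop, Category.assoc, Category.assoc,
    Scheme.ΓSpecIso_naturality]

theorem germVal_residue : germVal h ≫ CommRingCat.ofHom (residue R) = EtLocalLib.evR (pt h) :=
  (Scheme.pointSmallEtale (pt h)).presheafFiber_hom_ext fun U l =>
    ((Category.assoc _ _ _).symm.trans (congrArg (· ≫ CommRingCat.ofHom (residue R)) (germR_germVal h U l))).trans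
      ((valOf_residue h U l).trans ((Scheme.pointSmallEtale (pt h)).toPresheafFiber_presheafFiberDesc
        (P := EtBase.OO S) (fun U l => EtLocalLib.evalAt (pt h) U l) (fun _ _ g l => EtLocalLib.evalAt_map (pt h) g l) U l).symm)

/-- `Spec` of the germ map, to an affine neighbourhood. -/
def toNbhd (U : S.Etale) [IsAffine U.left] (l : Fib h U) : Spec (EtBase.etaleLocalRing (pt h)) ⟶ U.left :=
  Spec.map ((Scheme.pointSmallEtale (pt h)).toPresheafFiber U l (EtBase.OO S)) ≫ U.left.isoSpec.inv

theorem toNbhd_map {U V : S.Etale} [IsAffine U.left] [IsAffine V.left] (g : V ⟶ U) (l : Fib h V) :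
    toNbhd h V l ≫ g.left = toNbhd h U (fibMap h g l) := by
  rw [toNbhd, toNbhd, Category.assoc, ← Scheme.isoSpec_inv_naturality, ← Category.assoc, ← Spec.map_comp]
  exact congrArg (fun a => Spec.map a ≫ U.left.isoSpec.inv)
    ((Scheme.pointSmallEtale (pt h)).toPresheafFiber_w g l (EtBase.OO S))

theorem germVal_toNbhd (U : S.Etale) [IsAffine U.left] (l : Fib h U) :
    Spec.map (germVal h) ≫ toNbhd h U l = liftOf h U l := by
  rw [toNbhd, ← Category.assoc, ← Spec.map_comp, germR_germVal, valOf, Iso.comp_inv_eq, Scheme.isoSpec_hom,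
    Scheme.toSpecΓ_naturality, Spec.map_comp, ← Scheme.isoSpec_Spec_hom, Scheme.isoSpec_hom]

theorem evR_toNbhd (U : S.Etale) [IsAffine U.left] (l : Fib h U) :
    Spec.map (EtLocalLib.evR (pt h)) ≫ toNbhd h U l = liftHom (pt h) l := by
  rw [← germVal_residue, Spec.map_comp, Category.assoc, germVal_toNbhd, resPt_liftOf]

theorem exists_affine_refinement (U : S.Etale) (l : Fib h U) :
    ∃ (V : S.Etale) (_ : IsAffine V.left) (g : V ⟶ U) (m : Fib h V), fibMap h g m = l := by
  obtain ⟨O, hO, hx, -⟩ := exists_isAffineOpen_mem_and_subset (X := U.left) (U := ⊤)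
    (x := liftHom (pt h) l default) trivial
  obtain ⟨g, l', -, hgl⟩ := EtLocalLib.exists_openSub_lift (pt h) U l O hx
  exact ⟨EtLocalLib.openSub U O, (show IsAffine (O : Scheme.{u}) from hO), g, l', hgl⟩

theorem exists_affine_common (U V : S.Etale) (l : Fib h U) (m : Fib h V) :
    ∃ (W : S.Etale) (_ : IsAffine W.left) (a : W ⟶ U) (b : W ⟶ V) (n : Fib h W),
      fibMap h a n = l ∧ fibMap h b n = m := by
  haveI := (Scheme.pointSmallEtale (pt h)).isCofiltered
  obtain ⟨⟨W, w⟩, a, b, -⟩ := IsCofilteredOrEmpty.cone_objs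
    (Functor.elementsMk (Scheme.pointSmallEtale (pt h)).fiber U l)
    (Functor.elementsMk (Scheme.pointSmallEtale (pt h)).fiber V m)
  obtain ⟨W', hW', g, n, hn⟩ := exists_affine_refinement h W w
  refine ⟨W', hW', g ≫ a.1, g ≫ b.1, n, ?_, ?_⟩
  · exact (Functor.map_comp_apply (Scheme.pointSmallEtale (pt h)).fiber g a.1 n).trans
      ((congrArg (fun z => (Scheme.pointSmallEtale (pt h)).fiber.map a.1 z) hn).trans a.2)
  · exact (Functor.map_comp_apply (Scheme.pointSmallEtale (pt h)).fiber g b.1 n).trans
      ((congrArg (fun z => (Scheme.pointSmallEtale (pt h)).fiber.map b.1 z) hn).trans b.2)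

theorem toNbhd_w_eq {U V : S.Etale} [IsAffine U.left] [IsAffine V.left] (l : Fib h U) (m : Fib h V) :
    toNbhd h U l ≫ U.hom = toNbhd h V m ≫ V.hom := by
  obtain ⟨W, _, a, b, n, rfl, rfl⟩ := exists_affine_common h U V l m
  rw [← toNbhd_map h a n, ← toNbhd_map h b n, Category.assoc, Category.assoc, MorphismProperty.Over.w a,
    MorphismProperty.Over.w b]

theorem exists_affine_nbhd : ∃ (U : S.Etale) (_ : IsAffine U.left), Nonempty (Fib h U) := by
  obtain ⟨V, hV, -, m, -⟩ := exists_affine_refinement h (EtCoh.top S) (Over.homMk (pt h) (Category.comp_id _))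
  exact ⟨V, hV, ⟨m⟩⟩

/-- The map from the spectrum of the étale local ring. -/
def toBase : Spec (EtBase.etaleLocalRing (pt h)) ⟶ S :=
  haveI := (exists_affine_nbhd h).choose_spec.choose
  toNbhd h (exists_affine_nbhd h).choose (exists_affine_nbhd h).choose_spec.choose_spec.some ≫
    (exists_affine_nbhd h).choose.hom

theorem toNbhd_w (U : S.Etale) [IsAffine U.left] (l : Fib h U) : toNbhd h U l ≫ U.hom = toBase h :=
  haveI := (exists_affine_nbhd h).choose_spec.choose
  toNbhd_w_eq h l _

theorem germVal_toBase : Spec.map (germVal h) ≫ toBase h = h := by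
  obtain ⟨U, _, ⟨l⟩⟩ := exists_affine_nbhd h
  rw [← toNbhd_w h U l, ← Category.assoc, germVal_toNbhd, liftOf_w]

end Groth.Agent.StrictLocLib
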