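import Groth.Agent.Hensel.Sections
import Mathlib.AlgebraicGeometry.Morphisms.FormallyUnramified

/-!
# Lifts of the spectrum of a henselian local ring along étale morphisms

A map from `Spec A`, `A` local, to an étale scheme is determined by its composite with the structure
map and by its restriction to the closed point; for henselian `A` every such pair occurs.
-/

set_option autoImplicit false
set_option linter.style.haveILetI false
set_option backward.isDefEq.respectTransparency false
set_option backward.isDefEq.respectTransparency.types false

universe u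

open CategoryTheory CategoryTheory.Limits AlgebraicGeometry IsLocalRing

noncomputable section

namespace Groth.Agent.StrictLocLib

variable {A : Type u} [CommRing A] [IsLocalRing A]

/-- The closed point of the spectrum of a local ring. -/
abbrev resPt (A : Type u) [CommRing A] [IsLocalRing A] :
    Spec (CommRingCat.of (ResidueField A)) ⟶ Spec (CommRingCat.of A) :=
  Spec.map (CommRingCat.ofHom (residue A))

theorem resPt_apply (z : Spec (CommRingCat.of (ResidueField A))) :
    resPt A z = closedPoint A := by
  rw [Subsingleton.elim (α := PrimeSpectrum (ResidueField A)) z (closedPoint (ResidueField A))]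
  exact IsLocalRing.comap_closedPoint (residue A)

/-- Two maps over the base which agree at the closed point agree. -/
theorem lift_unique {U S : Scheme.{u}} (e : U ⟶ S) [FormallyUnramified e] [LocallyOfFiniteType e]
    {a b : Spec (CommRingCat.of A) ⟶ U} (h₁ : a ≫ e = b ≫ e) (h₂ : resPt A ≫ a = resPt A ≫ b) : a = b := by
  let g : Spec (CommRingCat.of A) ⟶ pullback e e := pullback.lift a b h₁
  let δ := pullback.diagonal e
  have hg : resPt A ≫ g = (resPt A ≫ a) ≫ δ := by
    apply pullback.hom_ext
    · simp [g, δ]
    · simp [g, δ, h₂]
  have hcl : g (closedPoint A) ∈ δ.opensRange := by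
    rw [← resPt_apply (A := A) (closedPoint (ResidueField A))]
    refine ⟨(resPt A ≫ a) (closedPoint (ResidueField A)), ?_⟩
    rw [← Scheme.Hom.comp_apply, ← Scheme.Hom.comp_apply, hg]
  have hr : Set.range g ⊆ Set.range δ := by
    rintro _ ⟨z, rfl⟩
    have hz : z ∈ g ⁻¹ᵁ δ.opensRange := by
      rw [Scheme.preimage_eq_top_of_closedPoint_mem g hcl]
      trivial
    exact hz
  let c := IsOpenImmersion.lift δ g hr
  have hc : c ≫ δ = g := IsOpenImmersion.lift_fac δ g hr
  calc a = g ≫ pullback.fst e e := (pullback.lift_fst _ _ _).symm
    _ = c := by rw [← hc]; simp [δ]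
    _ = g ≫ pullback.snd e e := by rw [← hc]; simp [δ]
    _ = b := pullback.lift_snd _ _ _

/-- A point at the closed point lifts. -/
theorem exists_lift {A : Type u} [CommRing A] [HenselianLocalRing A] {U S : Scheme.{u}} (e : U ⟶ S) [Etale e]
    (h : Spec (CommRingCat.of A) ⟶ S) (y : Spec (CommRingCat.of (ResidueField A)) ⟶ U) (hy : y ≫ e = resPt A ≫ h) :
    ∃ v : Spec (CommRingCat.of A) ⟶ U, v ≫ e = h ∧ resPt A ≫ v = y := by
  let π : pullback e h ⟶ Spec (CommRingCat.of A) := pullback.snd e h
  haveI : Etale π := inferInstance
  haveI : Smooth π := inferInstance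
  obtain ⟨u, hu, hu₀⟩ := Hensel.exists_section_of_smooth π (pullback.lift y (resPt A) hy) (pullback.lift_snd _ _ _)
  refine ⟨u ≫ pullback.fst e h, ?_, ?_⟩
  · rw [Category.assoc, pullback.condition, ← Category.assoc, hu, Category.id_comp]
  · rw [← Category.assoc, hu₀, pullback.lift_fst]

end Groth.Agent.StrictLocLib
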