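import Groth.Agent.StrictLocLib.Bij
import Mathlib.CategoryTheory.Presentable.Directed
import Mathlib.AlgebraicGeometry.GammaSpecAdjunction

/-!
# The strict localization as a limit of affine étale neighbourhoods

`NbhdSys h`: a directed system of affine étale neighbourhoods of the closed point, cofinal among all
neighbourhoods, whose limit is `Spec R`.
-/

set_option autoImplicit false
set_option linter.unusedSectionVars false
set_option linter.style.haveILetI false
set_option backward.isDefEq.respectTransparency false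
set_option backward.isDefEq.respectTransparency.types false

universe u

open CategoryTheory CategoryTheory.Limits AlgebraicGeometry Opposite IsLocalRing
open Groth.Agent.EtPtsLib

noncomputable section

namespace Groth.Agent.StrictLocLib

variable {S : Scheme.{u}} {R : Type u} [CommRing R] [HenselianLocalRing R] [IsSepClosed (ResidueField R)]
  (h : Spec (CommRingCat.of R) ⟶ S)

/-- The category of neighbourhoods. -/
abbrev Elts := (Scheme.pointSmallEtale (pt h)).fiber.Elements

/-- The underlying schemes. -/
abbrev eltScheme : Elts h ⥤ Scheme.{u} :=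
  CategoryOfElements.π _ ⋙ Scheme.Etale.forget S ⋙ Over.forget S

theorem eltScheme_map {x y : Elts h} (f : x ⟶ y) : (eltScheme h).map f = f.1.left := rfl

theorem liftOf_elt {x y : Elts h} (f : x ⟶ y) :
    liftOf h x.fst x.snd ≫ f.1.left = liftOf h y.fst y.snd :=
  (liftOf_map h f.1 x.snd).trans (congrArg (liftOf h y.fst) f.2)

/-- The cone of the maps of `Spec R` to the neighbourhoods. -/
def liftCone {J : Type u} [Category.{u} J] (D : J ⥤ Elts h) : Cone (D ⋙ eltScheme h) where
  pt := Spec (CommRingCat.of R)
  π :=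
    { app := fun j => liftOf h (D.obj j).fst (D.obj j).snd
      naturality := fun j k a => (Category.id_comp _).trans (liftOf_elt h (D.map a)).symm }

/-- A cofinal directed system of affine neighbourhoods with limit `Spec R`. -/
structure NbhdSys where
  ι : Type u
  [pre : Preorder ι]
  [dir : IsDirected ι (· ≤ ·)]
  [ne : Nonempty ι]
  D : ιᵒᵖ ⥤ Elts h
  aff : ∀ i, IsAffine (D.obj i).fst.left
  cofinal : ∀ x : Elts h, ∃ i, Nonempty (D.obj i ⟶ x)
  isLimit : IsLimit (liftCone h D)

attribute [instance] NbhdSys.pre NbhdSys.dir NbhdSys.ne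

/-- Affine neighbourhoods. -/
abbrev AffElts := (Scheme.AffineEtale.Spec S ⋙ (Scheme.pointSmallEtale (pt h)).fiber).Elements

/-- Affine neighbourhoods among all. -/
abbrev affIncl : AffElts h ⥤ Elts h := CategoryTheory.Functor.Elements.precomp _ _

theorem isAffine_affIncl (x : AffElts h) : IsAffine ((affIncl h).obj x).fst.left :=
  inferInstanceAs (IsAffine (Spec _))

instance : (affIncl h).Full where
  map_surjective {x y} f := ⟨⟨(Scheme.AffineEtale.Spec S).preimage f.1, by
    show (Scheme.pointSmallEtale (pt h)).fiber.map ((Scheme.AffineEtale.Spec S).map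
      ((Scheme.AffineEtale.Spec S).preimage f.1)) x.snd = y.snd
    rw [Functor.map_preimage]
    exact f.2⟩, Subtype.ext ((Scheme.AffineEtale.Spec S).map_preimage f.1)⟩

instance : (affIncl h).Faithful where
  map_injective {x y} a b e := Subtype.ext ((Scheme.AffineEtale.Spec S).map_injective (congrArg Subtype.val e))

theorem exists_affIncl (d : Elts h) : ∃ c, Nonempty ((affIncl h).obj c ⟶ d) := by
  obtain ⟨V, hV, g, m, hm⟩ := exists_affine_refinement h d.fst d.snd
  haveI : Etale V.hom := V.prop
  let c := Scheme.AffineEtale.mk (V.left.isoSpec.inv ≫ V.hom)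
  let a : (Scheme.AffineEtale.Spec S).obj c ⟶ V := MorphismProperty.Over.homMk V.left.isoSpec.inv rfl
  let n : (Scheme.pointSmallEtale (pt h)).fiber.obj ((Scheme.AffineEtale.Spec S).obj c) :=
    Over.homMk (liftHom (pt h) m ≫ V.left.isoSpec.hom) (by
      show (liftHom (pt h) m ≫ V.left.isoSpec.hom) ≫ V.left.isoSpec.inv ≫ V.hom = pt h
      rw [Category.assoc, Iso.hom_inv_id_assoc]
      exact liftHom_comp (pt h) m)
  have hn : (Scheme.pointSmallEtale (pt h)).fiber.map a n = m := Over.OverMorphism.ext (by
    show (liftHom (pt h) m ≫ V.left.isoSpec.hom) ≫ V.left.isoSpec.inv = _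
    rw [Category.assoc, Iso.hom_inv_id, Category.comp_id])
  exact ⟨Functor.elementsMk _ c n, ⟨⟨a ≫ g, ((Functor.map_comp_apply (Scheme.pointSmallEtale (pt h)).fiber a g n).trans
    ((congrArg (fun z => (Scheme.pointSmallEtale (pt h)).fiber.map g z) hn).trans hm))⟩⟩⟩

theorem exists_nbhdSys (hbij : Function.Bijective (germVal h).hom) : Nonempty (NbhdSys h) := by
  haveI := (Scheme.pointSmallEtale (pt h)).isCofiltered
  haveI : IsCofiltered (AffElts h) :=
    IsCofiltered.of_exists_of_isCofiltered_of_fullyFaithful (affIncl h) (exists_affIncl h)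
  haveI : (affIncl h).Initial := Functor.initial_of_exists_of_isCofiltered_of_fullyFaithful _ (exists_affIncl h)
  haveI : IsCofiltered (SmallModel.{u} (AffElts h)) :=
    IsCofiltered.of_equivalence (equivSmallModel (AffElts h))
  obtain ⟨α, _, _, _, F, _⟩ := IsFiltered.exists_directed.{u} (SmallModel.{u} (AffElts h))ᵒᵖ
  let G : α ⥤ (AffElts h)ᵒᵖ := F ⋙ (equivSmallModel (AffElts h)).inverse.op
  haveI : G.Final := inferInstanceAs (F ⋙ (equivSmallModel (AffElts h)).inverse.op).Final
  let K : α ⥤ (Elts h)ᵒᵖ := G ⋙ (affIncl h).op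
  haveI : K.Final := inferInstanceAs (G ⋙ (affIncl h).op).Final
  let D : αᵒᵖ ⥤ Elts h := K.leftOp
  have haff : ∀ i, IsAffine (D.obj i).fst.left := fun i => isAffine_affIncl h (G.obj i.unop).unop
  have hcof : ∀ x : Elts h, ∃ i, Nonempty (D.obj i ⟶ x) := fun x => by
    obtain ⟨c, ⟨f⟩⟩ := ((Functor.final_iff_of_isFiltered K).1 inferInstance).1 (op x)
    exact ⟨op c, ⟨f.unop⟩⟩
  let P := (CategoryOfElements.π (Scheme.pointSmallEtale (pt h)).fiber).op ⋙ EtBase.OO S
  let hcolim : IsColimit (((Scheme.pointSmallEtale (pt h)).presheafFiberCocone (EtBase.OO S)).whisker K) :=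
    (Functor.Final.isColimitWhiskerEquiv K _).symm ((Scheme.pointSmallEtale (pt h)).isColimitPresheafFiberCocone _)
  let hspec := isLimitOfPreserves Scheme.Spec hcolim.op
  haveI : IsIso (germVal h) := (ConcreteCategory.isIso_iff_bijective _).2 hbij
  let e : (K ⋙ P).op ⋙ Scheme.Spec ≅ D ⋙ eltScheme h :=
    NatIso.ofComponents (fun i => haveI := haff i; (D.obj i).fst.left.isoSpec.symm) fun {i j} a =>
      haveI := haff i
      haveI := haff j
      Scheme.isoSpec_inv_naturality (D.map a).1.left
  refine ⟨⟨α, D, haff, hcof, ?_⟩⟩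
  refine IsLimit.ofIsoLimit ((IsLimit.postcomposeHomEquiv e _).symm hspec)
    (Cone.ext (Scheme.Spec.mapIso (asIso (germVal h)).op).symm fun i => ?_)
  haveI := haff i
  refine (Iso.eq_inv_comp _).2 ?_
  exact germVal_toNbhd h (D.obj i).fst (D.obj i).snd

end Groth.Agent.StrictLocLib
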